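import Groth.Agent.Lib.CentExt24.Basic
import Groth.Agent.Lib.MTRigid29.ConstS
import Groth.Agent.Lib.MTRigid29.ConstProps
import Groth.Agent.Lib.MTRigid29.Descends
import Groth.Agent.Lib.GrpComp19.Basic
import Groth.Agent.Lib.MultAct19.Field
import Groth.Agent.Lib.TorsorSch25.ExactPts
import Groth.Agent.Lib.PtSet.Components
import Groth.Prelude.Def_NonAbH2
import Mathlib.GroupTheory.OrderOfElement
import Mathlib.AlgebraicGeometry.Morphisms.LocalFlatDescent

/-!
# Extensions of connected groups over a field by constant torsion-free groups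
-/

set_option autoImplicit false
set_option linter.style.haveILetI false
set_option backward.isDefEq.respectTransparency false
set_option backward.isDefEq.respectTransparency.types false
set_option maxSynthPendingDepth 3

universe u

open CategoryTheory CategoryTheory.Limits MonoidalCategory CartesianMonoidalCategory MonObj AlgebraicGeometry

noncomputable section

namespace Groth.Agent.ConstExt19

open MTRigid29

/-- The projection from a product with an object étale over the base. -/
theorem etale_fst {S : Scheme.{u}} (A B : Over S) [Etale B.hom] : Etale (fst A B).left :=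
  inferInstanceAs (Etale (pullback.fst A.hom B.hom))

/-- The middle map of an exact sequence with étale kernel is étale. -/
theorem etale_of_isExactSeq {S : Scheme.{u}} {G E P : Over S} [GrpObj G] [GrpObj E] [GrpObj P] [Etale G.hom]
    {u : G ⟶ E} {v : E ⟶ P} (hex : NonAbH1.IsExactSeq Scheme.fppfPrecoverage u v) : Etale v.left := by
  classical
  obtain ⟨-, -, -, hpb, R, hR, hs⟩ := hex
  have hR' := hR
  have hsurj : ∀ p : P.left, ∃ (W : Scheme.{u}) (f : W ⟶ P.left), R f ∧ p ∈ Set.range f := fun p => by
    obtain ⟨hj, -⟩ := hR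
    obtain ⟨Y, g, hg, hp⟩ := hj p
    obtain ⟨hg'⟩ := hg
    exact ⟨_, _, hg', hp⟩
  choose W f hRf hp using hsurj
  have hfam : Presieve.ofArrows W f ∈ Scheme.fpqcPrecoverage P.left := by
    refine Scheme.fppfPrecoverage_le_fpqcPrecoverage _ ((Scheme.ofArrows_mem_precoverage_iff _).2
      ⟨fun p => ⟨p, hp p⟩, fun p => ?_⟩)
    exact hR'.2 (hRf p)
  refine prop_of_fpqc_cover f hfam @Etale v.left fun p => ?_
  obtain ⟨x, hx⟩ := hs (f p) (hRf p)
  change x ≫ v.left = f p at hx
  have hsq : IsPullback (fst E G).left ((E ◁ u) ≫ μ[E]).left v.left v.left := hpb.map (Over.forget S)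
  have h1 := (IsPullback.of_hasPullback x (fst E G).left).flip.paste_horiz hsq.flip
  rw [hx] at h1
  haveI := etale_fst E G
  haveI : Etale (pullback.fst x (fst E G).left) := MorphismProperty.pullback_fst _ _ inferInstance
  exact ((MorphismProperty.cancel_left_of_respectsIso @Etale h1.isoPullback.inv _).2 ‹_› : _) |> fun h => by
    rwa [h1.isoPullback_inv_snd] at h

variable {k : Type u} [Field k] {Z : Type u} [Group Z]
  {P E G : Over (Spec (CommRingCat.of k))} [GrpObj P] [GrpObj E] [GrpObj G]
  {eG : G ≅ TwC.const (Spec (CommRingCat.of k)) Z} {u : G ⟶ E} {v : E ⟶ P}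

/-- The rational point of index `z`. -/
abbrev gpt (eG : G ≅ TwC.const (Spec (CommRingCat.of k)) Z) (z : Z) :
    𝟙_ (Over (Spec (CommRingCat.of k))) ⟶ G :=
  TwC.pt (Spec (CommRingCat.of k)) Z z ≫ eG.inv

/-- The translation by the point of index `z`. -/
def transl (eG : G ≅ TwC.const (Spec (CommRingCat.of k)) Z) (u : G ⟶ E) (z : Z) : E ⟶ E :=
  𝟙 E * ((toUnit E ≫ gpt eG z) ≫ u)

theorem comp_transl {T : Over (Spec (CommRingCat.of k))} (x : T ⟶ E) (z : Z) :
    x ≫ transl eG u z = x * ((toUnit T ≫ gpt eG z) ≫ u) := by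
  rw [transl, MonObj.comp_mul, Category.comp_id]
  congr 1
  simp only [← Category.assoc]
  rw [toUnit_unique (x ≫ toUnit E) (toUnit T)]

/-- The connected component of the unit. -/
def comp₀ (E : Over (Spec (CommRingCat.of k))) [GrpObj E] : Set E.left := connectedComponent (GrpComp19.e₀ E)

variable (hex : NonAbH1.IsExactSeq Scheme.fppfPrecoverage u v) (hG : TwC.IsConstGrp Z G eG)

include hG in
theorem gpt_one : gpt eG (1 : Z) = 1 := by
  have h := hG 1 1
  rw [_root_.mul_one] at h
  exact mul_left_cancel (h.trans (_root_.mul_one _).symm)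

include hex in
theorem transl_v (z : Z) : transl eG u z ≫ v = v := by
  haveI := hex.2.1
  rw [transl, MonObj.mul_comp, Category.assoc _ u v, hex.2.2.1, MonObj.comp_one, _root_.mul_one, Category.id_comp]

include hex hG in
theorem transl_transl (z w : Z) : transl eG u z ≫ transl eG u w = transl eG u (z * w) := by
  haveI := hex.1
  rw [comp_transl]
  show (𝟙 E * ((toUnit E ≫ gpt eG z) ≫ u)) * ((toUnit E ≫ gpt eG w) ≫ u) = _
  rw [_root_.mul_assoc, ← MonObj.mul_comp, ← MonObj.comp_mul]
  show 𝟙 E * ((toUnit E ≫ (gpt eG z * gpt eG w)) ≫ u) = _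
  rw [show gpt eG z * gpt eG w = gpt eG (z * w) from hG z w]
  rfl

include hex hG in
theorem transl_one : transl eG u (1 : Z) = 𝟙 E := by
  haveI := hex.1
  rw [transl, gpt_one hG, MonObj.comp_one, MonObj.one_comp, _root_.mul_one]

include hex in
/-- Two points with the same image differ locally by translations. -/
theorem exists_translate {T : Over (Spec (CommRingCat.of k))} (x y : T ⟶ E) (h : x ≫ v = y ≫ v) :
    ∃ g : T ⟶ TwC.const (Spec (CommRingCat.of k)) Z,
      x * ((g ≫ eG.inv) ≫ u) = y ∧
        ∀ (t : T.left) (z : Z), t ∈ piece g z → (transl eG u z).left (x.left t) = y.left t := by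
  obtain ⟨g₀, hg₀, -⟩ := CentExt24.existsUnique_mul hex x y h
  refine ⟨g₀ ≫ eG.hom, by simp only [Category.assoc, Iso.hom_inv_id_assoc]; exact hg₀, fun t z ht => ?_⟩
  let j : openOver (piece (g₀ ≫ eG.hom) z) ⟶ T := openIncl _
  have h1 : j ≫ g₀ ≫ eG.hom = toUnit _ ≫ TwC.pt (Spec (CommRingCat.of k)) Z z :=
    eq_toUnit_pt _ z fun w => w.2
  have h2 : j ≫ g₀ = toUnit _ ≫ gpt eG z := by
    have := congrArg (fun q => q ≫ eG.inv) h1
    simp only [Category.assoc, eG.hom_inv_id, Category.comp_id] at this
    exact this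
  have h3 : (j ≫ x) ≫ transl eG u z = j ≫ y := by
    rw [comp_transl, ← h2, ← hg₀, MonObj.comp_mul, Category.assoc]
  exact congrArg (fun q : openOver (piece (g₀ ≫ eG.hom) z) ⟶ E => q.left ⟨t, ht⟩) h3

/-- A translation sending a point into a component sends the component into it. -/
theorem transl_mem (z : Z) {a b : E.left} (hb : b ∈ connectedComponent a) :
    (transl eG u z).left b ∈ connectedComponent ((transl eG u z).left a) :=
  (transl eG u z).left.continuous.image_connectedComponent_subset a ⟨b, hb, rfl⟩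

variable [LocallyOfFiniteType P.hom]

include eG hex hG in
/-- Only the trivial translation preserves the component of the unit. -/
theorem eq_one_of_transl_mem (hZ : ∀ z : Z, IsOfFinOrder z → z = 1) [IsSeparated P.hom] (z : Z) {a : E.left}
    (ha : a ∈ comp₀ E) (hz : (transl eG u z).left a ∈ comp₀ E) : z = 1 := by
  classical
  haveI := hex.1; haveI := hex.2.1
  let o : E.left := GrpComp19.e₀ E
  have hpres : ∀ b ∈ comp₀ E, (transl eG u z).left b ∈ comp₀ E := fun b hb => by
    have h1 := transl_mem (eG := eG) (u := u) z (b := b) (a := a)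
      (by rw [show connectedComponent a = comp₀ E from connectedComponent_eq ha ▸ rfl]; exact hb)
    rwa [show connectedComponent ((transl eG u z).left a) = comp₀ E from (connectedComponent_eq hz).symm] at h1
  have hpow : ∀ n : ℕ, (transl eG u (z ^ n)).left o ∈ comp₀ E := fun n => by
    induction n with
    | zero =>
      rw [pow_zero, transl_one hex hG]
      exact mem_connectedComponent
    | succ n ih =>
      rw [pow_succ, ← transl_transl hex hG, Over.comp_left, Scheme.Hom.comp_apply]
      exact hpres _ ih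
  haveI : IsClosedImmersion (η[P].left ≫ P.hom) := by
    rw [Over.w]; exact inferInstanceAs (IsClosedImmersion (𝟙 _))
  haveI : IsClosedImmersion η[P].left := IsClosedImmersion.of_comp η[P].left P.hom
  have hu : IsClosedImmersion u.left := by
    have hpb : IsPullback u (toUnit G) v η[P] := by
      have hw : u ≫ v = toUnit G ≫ η[P] := by rw [hex.2.2.1, Hom.one_def]
      refine IsPullback.of_isLimit (c := PullbackCone.mk _ _ hw) (PullbackCone.IsLimit.mk _
        (fun c => (CentExt24.exists_u hex c.fst (by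
          rw [c.condition, Hom.one_def, toUnit_unique c.snd (toUnit c.pt)])).choose)
        (fun c => ?_) (fun c => toUnit_unique _ _) fun c m hm1 hm2 => ?_)
      · exact (CentExt24.exists_u hex c.fst (by
          rw [c.condition, Hom.one_def, toUnit_unique c.snd (toUnit c.pt)])).choose_spec
      · refine CentExt24.cancel_u hex ?_
        rw [(CentExt24.exists_u hex c.fst (by
          rw [c.condition, Hom.one_def, toUnit_unique c.snd (toUnit c.pt)])).choose_spec]
        exact hm1
    exact MorphismProperty.of_isPullback (hpb.map (Over.forget _)).flip ‹IsClosedImmersion η[P].left›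
  let w : TwC.const (Spec (CommRingCat.of k)) Z ⟶ E := eG.inv ≫ u
  haveI : IsIso eG.inv.left := (inferInstance : IsIso ((Over.forget _).map eG.inv))
  haveI : IsClosedImmersion w.left := inferInstanceAs (IsClosedImmersion (eG.inv.left ≫ u.left))
  have hK : IsCompact (w.left ⁻¹' comp₀ E) :=
    w.left.isClosedEmbedding.isCompact_preimage (GrpComp19.isCompact_connectedComponent_unit E)
  obtain ⟨s, hs⟩ := hK.elim_finite_subcover
    (fun m : Z => Set.range (Sigma.ι (fun _ : Z => Spec (CommRingCat.of k)) m))
    (fun m => (Sigma.ι (fun _ : Z => Spec (CommRingCat.of k)) m).isOpenEmbedding.isOpen_range)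
    (fun q _ => Set.mem_iUnion.2 (((sigmaOpenCover fun _ : Z => Spec (CommRingCat.of k)).exists_eq q).imp
      fun m ⟨y, hy⟩ => ⟨y, hy⟩))
  refine hZ z (not_not.1 fun hni => ?_)
  refine (Set.infinite_of_injective_forall_mem (injective_pow_iff_not_isOfFinOrder.2 hni) fun n => ?_) s.finite_toSet
  let p0 : (𝟙_ (Over (Spec (CommRingCat.of k)))).left :=
    (IsLocalRing.closedPoint k : Spec (CommRingCat.of k))
  let q : (TwC.const (Spec (CommRingCat.of k)) Z).left :=
    (TwC.pt (Spec (CommRingCat.of k)) Z (z ^ n)).left p0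
  have e1 : η[E] ≫ transl eG u (z ^ n) = TwC.pt (Spec (CommRingCat.of k)) Z (z ^ n) ≫ w := by
    have : (η[E] : 𝟙_ _ ⟶ E) = 1 := by rw [Hom.one_def, toUnit_unique (toUnit _) (𝟙 _), Category.id_comp]
    rw [this, comp_transl, _root_.one_mul, toUnit_unique (toUnit _) (𝟙 _), Category.id_comp, Category.assoc]
  have hq : w.left q ∈ comp₀ E := by
    have e2 : (η[E] ≫ transl eG u (z ^ n)).left p0 = w.left q := congrArg (fun r => r.left p0) e1
    rw [← e2]
    exact hpow n
  obtain ⟨m, hm, y, hy⟩ : ∃ m ∈ s, q ∈ Set.range (Sigma.ι (fun _ : Z => Spec (CommRingCat.of k)) m) := by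
    simpa using hs (show q ∈ w.left ⁻¹' comp₀ E from hq)
  have : m = z ^ n := congrArg Sigma.fst ((sigmaι_eq_iff (fun _ : Z => Spec (CommRingCat.of k)) _ _ _ _).1 hy)
  exact this ▸ hm

include hex hG in
/-- Two points in the component of the unit with the same image are equal. -/
theorem eq_of_range_subset (hZ : ∀ z : Z, IsOfFinOrder z → z = 1) [IsSeparated P.hom]
    {T : Over (Spec (CommRingCat.of k))} (x y : T ⟶ E) (h : x ≫ v = y ≫ v)
    (hx : ∀ t, x.left t ∈ comp₀ E) (hy : ∀ t, y.left t ∈ comp₀ E) : x = y := by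
  haveI := hex.1
  obtain ⟨g, hg, hgt⟩ := exists_translate (eG := eG) hex x y h
  have h1 : g = toUnit T ≫ TwC.pt (Spec (CommRingCat.of k)) Z 1 := eq_toUnit_pt g 1 fun t => by
    obtain ⟨z, hz⟩ := mem_piece_self g t
    have hz' := hgt t z hz
    rwa [eq_one_of_transl_mem hex hG hZ z (hx t) (hz' ▸ hy t)] at hz
  rw [h1, Category.assoc (toUnit T)] at hg
  change x * ((toUnit T ≫ gpt eG (1 : Z)) ≫ u) = y at hg
  rw [gpt_one hG, MonObj.comp_one, MonObj.one_comp, _root_.mul_one] at hg
  exact hg

include hex hG in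
/-- An extension of a connected group by a torsion-free constant group is rigid and split. -/
theorem rigid_and_splits (hZ : ∀ z : Z, IsOfFinOrder z → z = 1) [ConnectedSpace ↥P.left] :
    (∀ φ : E ≅ E, IsMonHom φ.hom → u ≫ φ.hom = u → φ.hom ≫ v = v → φ.hom = 𝟙 E) ∧
      ∃ s : P ⟶ E, IsMonHom s ∧ s ≫ v = 𝟙 P := by
  classical
  haveI := hex.1; haveI := hex.2.1
  haveI : IsSeparated P.hom := AbRigid.isSeparated_of_grpObj P
  haveI : IsIso eG.hom.left := (inferInstance : IsIso ((Over.forget _).map eG.hom))
  haveI : Etale G.hom := by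
    rw [← Over.w eG.hom]
    exact (MorphismProperty.cancel_left_of_respectsIso @Etale _ _).2 etale_const
  haveI hv : Etale v.left := etale_of_isExactSeq hex
  haveI : LocallyOfFiniteType E.hom := by rw [← Over.w v]; infer_instance
  haveI : IsLocallyNoetherian E.left := LocallyOfFiniteType.isLocallyNoetherian E.hom
  haveI : LocallyConnectedSpace E.left := by
    refine PtSet.locallyConnectedSpace_of_noetherian_nhds fun x => ?_
    obtain ⟨U, hU, hxU, -⟩ := exists_isAffineOpen_mem_and_subset (X := E.left) (x := x) (U := ⊤) trivial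
    haveI : IsAffine U.toScheme := hU
    haveI : IsLocallyNoetherian U.toScheme := LocallyOfFiniteType.isLocallyNoetherian U.ι
    haveI : IsNoetherian U.toScheme := ⟨⟩
    exact ⟨U, U.2.mem_nhds hxU, inferInstanceAs (TopologicalSpace.NoetherianSpace U.toScheme)⟩
  haveI := GrpComp19.irreducibleSpace P
  let C : E.left.Opens := ⟨comp₀ E, isOpen_connectedComponent⟩
  let o : E.left := GrpComp19.e₀ E
  have hoC : o ∈ C := mem_connectedComponent
  let c : openOver C ⟶ E := openIncl C
  let h₀ : C.toScheme ⟶ P.left := C.ι ≫ v.left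
  haveI : Mono h₀ := ⟨fun {T} a b hab => by
    let T' : Over (Spec (CommRingCat.of k)) := Over.mk (a ≫ C.ι ≫ E.hom)
    have hw : (b ≫ C.ι) ≫ E.hom = T'.hom := by
      show (b ≫ C.ι) ≫ E.hom = a ≫ C.ι ≫ E.hom
      rw [← Over.w v]
      simpa only [h₀, Category.assoc] using (congrArg (fun q => q ≫ P.hom) hab).symm
    let x : T' ⟶ E := Over.homMk (a ≫ C.ι) (by simp [T'])
    let y : T' ⟶ E := Over.homMk (b ≫ C.ι) hw
    have hxy : x = y := eq_of_range_subset hex hG hZ x y
      (Over.OverMorphism.ext (by simpa [x, y, h₀] using hab))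
      (fun t => (a t).2) (fun t => (b t).2)
    have := congrArg (fun q : T' ⟶ E => q.left) hxy
    exact (cancel_mono C.ι).1 this⟩
  haveI : Etale h₀ := MorphismProperty.comp_mem _ _ _ inferInstance hv
  haveI : IsOpenImmersion h₀ := IsOpenImmersion.of_flat_of_mono h₀
  haveI : Surjective h₀ := ⟨fun p => by
    obtain ⟨R, hR, hs⟩ := hex.2.2.2.2
    obtain ⟨_, _, hfm, hp'⟩ := hR.1 p
    obtain ⟨hf⟩ := hfm
    obtain ⟨t, ht⟩ := hp'
    obtain ⟨x, hx⟩ := hs _ hf
    change x ≫ v.left = _ at hx
    let d : E.left := x t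
    have hd : v.left d = p := by rw [← ht, ← hx]; rfl
    obtain ⟨q, ⟨⟨d', hd', hd'q⟩, c', hc'⟩⟩ := nonempty_preirreducible_inter
      (v.left.isOpenMap _ (isOpen_connectedComponent (x := d))) h₀.isOpenEmbedding.isOpen_range
      ⟨_, d, mem_connectedComponent, rfl⟩ ⟨_, ⟨o, hoC⟩, rfl⟩
    obtain ⟨r, hr1, hr2⟩ := Scheme.Pullback.exists_preimage_pullback (f := v.left) (g := v.left) (C.ι c') d'
      (by rw [← Scheme.Hom.comp_apply]; exact hc'.trans hd'q.symm)
    let T : Over (Spec (CommRingCat.of k)) := Over.mk (pullback.fst v.left v.left ≫ E.hom)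
    let a : T ⟶ E := Over.homMk (pullback.fst v.left v.left) rfl
    let b : T ⟶ E := Over.homMk (pullback.snd v.left v.left) (by
      show pullback.snd v.left v.left ≫ E.hom = pullback.fst v.left v.left ≫ E.hom
      rw [← Over.w v, pullback.condition_assoc])
    obtain ⟨g, -, hg⟩ := exists_translate (eG := eG) hex a b (Over.OverMorphism.ext pullback.condition)
    obtain ⟨z, hz⟩ := mem_piece_self g r
    have hzd : (transl eG u z).left (C.ι c') = d' := by
      have := hg r z hz
      simp only [a, b, Over.homMk_left] at this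
      refine Eq.trans ?_ (this.trans ?_)
      · exact congrArg _ hr1.symm
      · exact hr2
    have hback : (transl eG u z⁻¹).left d' = C.ι c' := by
      rw [← hzd, ← Scheme.Hom.comp_apply, ← Over.comp_left, transl_transl hex hG, mul_inv_cancel,
        transl_one hex hG]
      rfl
    have hmem := transl_mem (eG := eG) (u := u) z⁻¹ (a := d') (b := d)
      (by rw [← connectedComponent_eq hd']; exact mem_connectedComponent)
    rw [hback, ← connectedComponent_eq (show C.ι c' ∈ comp₀ E from c'.2)] at hmem
    refine ⟨⟨(transl eG u z⁻¹).left d, hmem⟩, ?_⟩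
    show v.left ((transl eG u z⁻¹).left d) = p
    rw [← Scheme.Hom.comp_apply, ← Over.comp_left, transl_v hex]
    exact hd⟩
  haveI : IsIso h₀ := (isIso_iff_isOpenImmersion_and_surjective _).2 ⟨inferInstance, inferInstance⟩
  let s : P ⟶ E := Over.homMk (inv h₀ ≫ C.ι) (by
    rw [Category.assoc, IsIso.inv_comp_eq]
    show C.ι ≫ E.hom = (C.ι ≫ v.left) ≫ P.hom
    rw [Category.assoc, Over.w v])
  have hsv : s ≫ v = 𝟙 P := Over.OverMorphism.ext (by
    show (inv h₀ ≫ C.ι) ≫ v.left = 𝟙 _
    rw [Category.assoc]; exact IsIso.inv_hom_id h₀)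
  have hsC : ∀ p, s.left p ∈ comp₀ E := fun p => ((inv h₀) p).2
  let p0 : (𝟙_ (Over (Spec (CommRingCat.of k)))).left :=
    (IsLocalRing.closedPoint k : Spec (CommRingCat.of k))
  have hs1 : η[P] ≫ s = η[E] := by
    refine eq_of_range_subset hex hG hZ _ _ ?_ (fun t => hsC _) (fun t => ?_)
    · rw [Category.assoc, hsv, Category.comp_id, IsMonHom.one_hom]
    · rw [show t = p0 from Subsingleton.elim (α := PrimeSpectrum k) _ _]
      exact mem_connectedComponent
  haveI := MultAct19.geometricallyConnected P
  haveI : UniversallyOpen P.hom := inferInstance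
  haveI : ConnectedSpace ↥(P ⊗ P).left := inferInstanceAs (ConnectedSpace ↥(pullback P.hom P.hom))
  have hsmul : IsMonHom s := TorsorSch25.isMonHom_of_points s fun T p q => by
    have key : μ[P] ≫ s = (fst P P ≫ s) * (snd P P ≫ s) := by
      refine eq_of_range_subset hex hG hZ _ _ ?_ (fun t => hsC _) (fun t => ?_)
      · rw [Category.assoc, hsv, Category.comp_id, MonObj.mul_comp, Category.assoc, Category.assoc, hsv,
          Category.comp_id, Category.comp_id, Hom.mul_def, lift_fst_snd, Category.id_comp]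
      · let f : P ⊗ P ⟶ E := (fst P P ≫ s) * (snd P P ≫ s)
        let i : 𝟙_ (Over (Spec (CommRingCat.of k))) ⟶ P ⊗ P := lift η[P] η[P]
        have hi : i ≫ f = η[E] := by
          show lift η[P] η[P] ≫ ((fst P P ≫ s) * (snd P P ≫ s)) = _
          rw [MonObj.comp_mul, lift_fst_assoc, lift_snd_assoc, hs1,
            show (η[E] : 𝟙_ _ ⟶ E) = 1 by rw [Hom.one_def, toUnit_unique (toUnit _) (𝟙 _), Category.id_comp],
            _root_.one_mul]
        have hsub := f.left.continuous.image_connectedComponent_subset (i.left p0)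
        rw [PreconnectedSpace.connectedComponent_eq_univ,
          show f.left (i.left p0) = o from congrArg (fun r => r.left p0) hi] at hsub
        exact hsub ⟨t, trivial, rfl⟩
    have h2 := congrArg (fun r => lift p q ≫ r) key
    simp only [MonObj.comp_mul, lift_fst_assoc, lift_snd_assoc] at h2
    rw [← h2, Hom.mul_def, Category.assoc]
  refine ⟨fun φ hφ hu hφv => ?_, s, hsmul, hsv⟩
  haveI := hsmul
  have hsφ : s ≫ φ.hom = s := by
    refine eq_of_range_subset hex hG hZ _ _ (by rw [Category.assoc, hφv]) (fun t => ?_) hsC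
    have hsub := (s ≫ φ.hom).left.continuous.image_connectedComponent_subset (η[P].left p0)
    have he : η[P] ≫ s ≫ φ.hom = η[E] := by rw [← Category.assoc, hs1, IsMonHom.one_hom]
    rw [PreconnectedSpace.connectedComponent_eq_univ,
      show (s ≫ φ.hom).left (η[P].left p0) = o from congrArg (fun r => r.left p0) he] at hsub
    exact hsub ⟨t, trivial, rfl⟩
  obtain ⟨g, hg, -⟩ := CentExt24.existsUnique_mul hex (v ≫ s) (𝟙 E)
    (by rw [Category.assoc, hsv, Category.comp_id, Category.id_comp])
  calc φ.hom = 𝟙 E ≫ φ.hom := (Category.id_comp _).symm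
    _ = ((v ≫ s) * (g ≫ u)) ≫ φ.hom := by rw [hg]
    _ = (v ≫ s) * (g ≫ u) := by rw [MonObj.mul_comp, Category.assoc, Category.assoc, hsφ, hu]
    _ = 𝟙 E := hg

end Groth.Agent.ConstExt19
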