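import Groth.Agent.Lib.ConstExt19.Unibranch
import Groth.Agent.Lib.MTRigid29.TwConstProps

/-!
# Maps to constant schemes and the generic fibre
-/

set_option autoImplicit false
set_option linter.style.haveILetI false
set_option linter.unusedSectionVars false
set_option backward.isDefEq.respectTransparency false
set_option backward.isDefEq.respectTransparency.types false
set_option maxSynthPendingDepth 3

universe u

open CategoryTheory CategoryTheory.Limits MonoidalCategory CartesianMonoidalCategory MonObj AlgebraicGeometry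
open Groth.Agent.EtHull15

noncomputable section

namespace Groth.Agent.ConstExt19

open MTRigid29

variable {S : Scheme.{u}} [IrreducibleSpace S] (hS : ∀ s : S, CAlg2.IsGeomUnibranch (S.presheaf.stalk s))
  {ξ : S} (hξ : IsGenericPoint ξ (Set.univ : Set S)) {Z : Type u}

/-- The comparison of a map with its restriction to the generic fibre. -/
theorem piece_map_pullback {Y : Over S} (K : Y ⟶ TwC.const S Z)
    (a : Z) (q : ↥(Red.bc (S.fromSpecResidueField ξ) Y).left) :
    q ∈ piece ((Over.pullback (S.fromSpecResidueField ξ)).map K ≫ (constBC (S.fromSpecResidueField ξ) Z).hom) a ↔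
      pullback.fst Y.hom (S.fromSpecResidueField ξ) q ∈ piece K a := by
  let i := S.fromSpecResidueField ξ
  let w := (Over.pullback i).map K ≫ (constBC i Z).hom
  have hw : (Over.map i).map w ≫ constToBase i Z = (Over.mapPullbackAdj i).counit.app Y ≫ K := by
    have h1 : w ≫ (Over.mapPullbackAdj i).homEquiv _ _ (constToBase i Z) = (Over.pullback i).map K := by
      show ((Over.pullback i).map K ≫ (constBC i Z).hom) ≫ (constBC i Z).inv = _
      rw [Category.assoc, Iso.hom_inv_id, Category.comp_id]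
    have h2 := congrArg ((Over.mapPullbackAdj i).homEquiv _ _).symm h1
    rw [Adjunction.homEquiv_naturality_left_symm, Equiv.symm_apply_apply] at h2
    exact h2.trans (by rw [Adjunction.homEquiv_counit, Adjunction.counit_naturality])
  have hp : ∀ b, q ∈ piece w b → pullback.fst Y.hom i q ∈ piece K b := fun b hb => by
    have := piece_constToBase i Z w b hb
    rw [hw] at this
    have hl : ((Over.mapPullbackAdj i).counit.app Y).left = pullback.fst Y.hom i := by simp
    change ((Over.mapPullbackAdj i).counit.app Y).left q ∈ piece K b at this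
    rwa [hl] at this
  refine ⟨hp a, fun h => ?_⟩
  obtain ⟨b, hb⟩ := mem_piece_self w q
  rwa [eq_of_mem_piece K h (hp b hb)]

theorem mem_range_fst {Y : Over S} (y : Y.left) (h : Y.hom y = ξ) :
    ∃ q, pullback.fst Y.hom (S.fromSpecResidueField ξ) q = y := by
  have : y ∈ Set.range (Y.hom.fiberι ξ) := by rw [Scheme.Hom.range_fiberι]; exact h
  exact this

include hξ in
theorem hom_eq_of_isGen {Y : Over S} [Flat Y.hom] {l : Y.left} (hl : IsGen l) : Y.hom l = ξ :=
  ((isGen_image Y.hom hl) ξ (hξ.specializes (Set.mem_univ _))).symm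

include hξ in
/-- Maps to a constant scheme are determined by their restriction to the generic fibre. -/
theorem eq_of_map_eq {Y : Over S} [Flat Y.hom] {G : Over S} (eG : G ≅ TwC.const S Z) {K K' : Y ⟶ G}
    (h : (Over.pullback (S.fromSpecResidueField ξ)).map K = (Over.pullback (S.fromSpecResidueField ξ)).map K') :
    K = K' := by
  have key : K ≫ eG.hom = K' ≫ eG.hom := by
    refine eq_of_piece_le _ _ fun a y hy => ?_
    obtain ⟨l, hl, hly⟩ := exists_isGen (T := Y.left) y
    obtain ⟨b, hb⟩ := mem_piece_self (K' ≫ eG.hom) y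
    obtain ⟨q, hq⟩ := mem_range_fst l (hom_eq_of_isGen hξ hl)
    have h1 : l ∈ piece (K ≫ eG.hom) a := hly.mem_open (piece (K ≫ eG.hom) a).2 hy
    have h2 : l ∈ piece (K' ≫ eG.hom) b := hly.mem_open (piece (K' ≫ eG.hom) b).2 hb
    rw [← hq, ← piece_map_pullback] at h1 h2
    rw [Functor.map_comp, h, ← Functor.map_comp] at h1
    rwa [eq_of_mem_piece _ h1 h2]
  exact (cancel_mono eG.hom).1 key

include hS hξ in
/-- Maps from the generic fibre to a constant scheme extend. -/
theorem exists_map_eq {Y : Over S} [Smooth Y.hom] {G : Over S} (eG : G ≅ TwC.const S Z)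
    (k : Red.bc (S.fromSpecResidueField ξ) Y ⟶ Red.bc (S.fromSpecResidueField ξ) G) :
    ∃ K : Y ⟶ G, (Over.pullback (S.fromSpecResidueField ξ)).map K = k := by
  classical
  let i := S.fromSpecResidueField ξ
  let e : Red.bc i G ≅ TwC.const _ Z := (Over.pullback i).mapIso eG ≪≫ constBC i Z
  have hY := isGeomUnibranch_of_smooth Y.hom hS
  have huni := fun y => isUnibranch_of_etale (𝟙 Y.left) hY y
  have hfin : LocFinGen Y.left := locFinGen_of_flat Y.hom
  have hclo : ∀ l : {l : Y.left // IsGen l}, IsClopen (closure ({l.1} : Set Y.left)) :=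
    fun l => isClopen_closure huni hfin l.2
  have hq : ∀ l : {l : Y.left // IsGen l}, ∃ q, pullback.fst Y.hom i q = l.1 :=
    fun l => mem_range_fst l.1 (hom_eq_of_isGen hξ l.2)
  choose q hq using hq
  have hz : ∀ l, ∃ a, q l ∈ piece (k ≫ e.hom) a := fun l => mem_piece_self _ _
  choose z hz using hz
  let U : Z → Y.left.Opens := fun a => ⟨⋃ l ∈ {l | z l = a}, closure ({l.1} : Set Y.left),
    isOpen_biUnion fun l _ => (hclo l).isOpen⟩
  have hU : ⨆ a, U a = ⊤ := eq_top_iff.2 fun y _ => by
    obtain ⟨l, hl, hly⟩ := exists_isGen (T := Y.left) y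
    refine TopologicalSpace.Opens.mem_iSup.2 ⟨z ⟨l, hl⟩, Set.mem_iUnion₂.2 ⟨⟨l, hl⟩, rfl, ?_⟩⟩
    exact specializes_iff_mem_closure.1 hly
  have hd : Pairwise (fun a b => Disjoint (U a) (U b)) := fun a b hab => by
    show Disjoint (U a) (U b)
    rw [disjoint_iff, eq_bot_iff]
    rintro y ⟨hya, hyb⟩
    obtain ⟨l, rfl, hl⟩ := Set.mem_iUnion₂.1 hya
    obtain ⟨l', rfl, hl'⟩ := Set.mem_iUnion₂.1 hyb
    obtain ⟨g, -, -, hu⟩ := exists_unique_isGen y (huni y)
    exact (hab (congrArg z (Subtype.ext ((hu _ l.2 (specializes_iff_mem_closure.2 hl)).trans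
      (hu _ l'.2 (specializes_iff_mem_closure.2 hl')).symm)))).elim
  obtain ⟨K, hK⟩ := exists_hom_of_partition U hU hd
  refine ⟨K ≫ eG.inv, (cancel_mono e.hom).1 (eq_of_piece_le _ _ fun a p hp => ?_)⟩
  have e1 : (Over.pullback i).map (K ≫ eG.inv) ≫ e.hom = (Over.pullback i).map K ≫ (constBC i Z).hom := by
    show (Over.pullback i).map (K ≫ eG.inv) ≫ (Over.pullback i).map eG.hom ≫ (constBC i Z).hom = _
    rw [← Functor.map_comp_assoc, Category.assoc, Iso.inv_hom_id, Category.comp_id]
  rw [e1, piece_map_pullback] at hp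
  obtain ⟨l, hl, hly⟩ := exists_isGen (T := Y.left) (pullback.fst Y.hom i p)
  have hzl : z ⟨l, hl⟩ = a := by
    refine eq_of_mem_piece K (hK _ (Set.mem_iUnion₂.2 ⟨⟨l, hl⟩, rfl, ?_⟩)) hp
    exact specializes_iff_mem_closure.1 hly
  have hsp : q ⟨l, hl⟩ ⤳ p := by
    refine (Y.hom.fiberι ξ).isEmbedding.isInducing.specializes_iff.1 ?_
    show pullback.fst Y.hom i (q ⟨l, hl⟩) ⤳ pullback.fst Y.hom i p
    rw [hq]; exact hly
  obtain ⟨b, hb⟩ := mem_piece_self (k ≫ e.hom) p
  rw [← hzl, eq_of_mem_piece _ (hz ⟨l, hl⟩) (hsp.mem_open (piece (k ≫ e.hom) b).2 hb)]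
  exact hb

end Groth.Agent.ConstExt19
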