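import Groth.Agent.Lib.ConstExt19.Basic
import Groth.Agent.Lib.MTRigid29.TwConstProps
import Groth.Agent.Lib.MTRigid29.HomLocus
import Groth.Agent.Lib.MTRigid29.HomDual
import Groth.Agent.Lib.GrpNeutral20.Smooth
import Groth.Agent.Lib.TorsorSch25.Basic
import Groth.Agent.Lib.GrpNeutral20.Conj
import Groth.Agent.Lib.PureSmooth29.Subgroup
import Groth.Prelude.Def_SGA3x

/-!
# Extensions of smooth groups with connected fibres by twisted lattices split
-/

set_option autoImplicit false
set_option linter.style.haveILetI false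
set_option linter.unusedSectionVars false
set_option backward.isDefEq.respectTransparency false
set_option backward.isDefEq.respectTransparency.types false
set_option maxSynthPendingDepth 3

universe u

open CategoryTheory CategoryTheory.Limits MonoidalCategory CartesianMonoidalCategory MonObj AlgebraicGeometry

noncomputable section

namespace Groth.Agent.ConstExt19

open MTRigid29 DiagGL

theorem fl_left {S S' : Scheme.{u}} (φ : S' ⟶ S) {X : Over S} [GrpObj X] {T : Over S'} (x : T ⟶ Red.bc φ X) :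
    (fl φ X x).left = x.left ≫ pullback.fst X.hom φ := by
  rw [fl, Adjunction.homEquiv_counit]
  simp

theorem fl_one {S S' : Scheme.{u}} (φ : S' ⟶ S) {G : Over S} [GrpObj G] (A : Over S') :
    fl φ G (1 : A ⟶ Red.bc φ G) = 1 := by
  have := fl_mul φ G (1 : A ⟶ Red.bc φ G) 1
  rw [_root_.one_mul] at this
  exact left_eq_mul.1 this

section BC

variable {S S' : Scheme.{u}} {G E P : Over S} [GrpObj G] [GrpObj E] [GrpObj P] {u : G ⟶ E} {v : E ⟶ P}

/-- Exact sequences are stable under base change. -/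
theorem isExactSeq_bc (hex : NonAbH1.IsExactSeq Scheme.fppfPrecoverage u v) (φ : S' ⟶ S) :
    NonAbH1.IsExactSeq Scheme.fppfPrecoverage (G' := Red.bc φ G) (G := Red.bc φ E) (G'' := Red.bc φ P)
      ((Over.pullback φ).map u) ((Over.pullback φ).map v) := by
  haveI := hex.1; haveI := hex.2.1
  haveI hu' : IsMonHom (M := Red.bc φ G) (N := Red.bc φ E) ((Over.pullback φ).map u) := isMonHom_map u φ
  haveI hv' : IsMonHom (M := Red.bc φ E) (N := Red.bc φ P) ((Over.pullback φ).map v) := isMonHom_map v φ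
  let u' : Red.bc φ G ⟶ Red.bc φ E := (Over.pullback φ).map u
  let v' : Red.bc φ E ⟶ Red.bc φ P := (Over.pullback φ).map v
  have huv : u' ≫ v' = 1 := fl_injective φ P (by
    show fl φ P (u' ≫ v') = fl φ P 1
    rw [fl_comp_map, fl_one, show u' = 𝟙 _ ≫ u' from (Category.id_comp _).symm, fl_comp_map, Category.assoc,
      hex.2.2.1, MonObj.comp_one])
  have hpts : ∀ {T : Over S'} (x y : T ⟶ Red.bc φ E), x ≫ v' = y ≫ v' →
      ∃! k : T ⟶ Red.bc φ G, x * (k ≫ u') = y := by
    intro T x y h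
    obtain ⟨k₀, hk₀, huniq⟩ := CentExt24.existsUnique_mul hex (fl φ E x) (fl φ E y)
      (by rw [← fl_comp_map, ← fl_comp_map]; exact congrArg (fl φ P) h)
    obtain ⟨k, rfl⟩ := fl_surjective φ G k₀
    refine ⟨k, fl_injective φ E ?_, fun k' hk' => fl_injective φ G (huniq _ ?_)⟩
    · show fl φ E (x * (k ≫ u')) = fl φ E y
      rw [fl_mul, fl_comp_map]; exact hk₀
    · show fl φ E x * (fl φ G k' ≫ u) = fl φ E y
      rw [← fl_comp_map, ← fl_mul]; exact congrArg (fl φ E) hk'
  refine ⟨hu', hv', huv, ?_, ?_⟩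
  · have key : ∀ {T : Over S'} (l : T ⟶ Red.bc φ E ⊗ Red.bc φ G),
        l ≫ (Red.bc φ E ◁ u') ≫ μ[Red.bc φ E] = (l ≫ fst _ _) * ((l ≫ snd _ _) ≫ u') := by
      intro T l
      rw [Hom.mul_def, ← lift_whiskerLeft_assoc, ← comp_lift, lift_fst_snd, Category.comp_id]
    have hw : fst _ _ ≫ v' = ((Red.bc φ E ◁ u') ≫ μ[Red.bc φ E]) ≫ v' := by
      have := key (𝟙 (Red.bc φ E ⊗ Red.bc φ G))
      rw [Category.id_comp, Category.id_comp, Category.id_comp] at this
      rw [this, MonObj.mul_comp, Category.assoc, huv, MonObj.comp_one, _root_.mul_one]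
    let l : ∀ (c : PullbackCone v' v'), c.pt ⟶ Red.bc φ E ⊗ Red.bc φ G := fun c =>
      lift c.fst (hpts c.fst c.snd c.condition).choose
    refine IsPullback.of_isLimit (c := PullbackCone.mk _ _ hw) (PullbackCone.IsLimit.mk _ l
      (fun c => lift_fst _ _) (fun c => ?_) fun c m hm1 hm2 => ?_)
    · rw [key, lift_fst, lift_snd]
      exact (hpts c.fst c.snd c.condition).choose_spec.1
    · refine CartesianMonoidalCategory.hom_ext _ _ (by rw [lift_fst]; exact hm1) ?_
      rw [lift_snd]
      refine (hpts c.fst c.snd c.condition).choose_spec.2 _ ?_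
      show _ * _ = _
      rw [← hm1, ← key]
      exact hm2
  · obtain ⟨R, hR, hs⟩ := hex.2.2.2.2
    refine ⟨R.pullbackArrows (pullback.fst P.hom φ), Precoverage.pullbackArrows_mem _ hR, fun T f hf => ?_⟩
    obtain ⟨W, w, hw, q, hq⟩ := TorsorSch25.exists_of_pullbackArrows hf
    obtain ⟨s, hs'⟩ := hs w hw
    change s ≫ v.left = w at hs'
    refine ⟨pullback.lift (q ≫ s) (f ≫ pullback.snd P.hom φ) ?_, pullback.hom_ext ?_ ?_⟩
    · rw [← Over.w v, ← Category.assoc, Category.assoc q, hs', hq, Category.assoc, pullback.condition, Category.assoc]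
    · show (pullback.lift _ _ _ ≫ v'.left) ≫ pullback.fst P.hom φ = _
      rw [Category.assoc, show v'.left ≫ pullback.fst P.hom φ = pullback.fst E.hom φ ≫ v.left from pullback.lift_fst _ _ _,
        pullback.lift_fst_assoc, Category.assoc, hs', hq]
    · show (pullback.lift _ _ _ ≫ v'.left) ≫ pullback.snd P.hom φ = _
      rw [Category.assoc, show v'.left ≫ pullback.snd P.hom φ = pullback.snd E.hom φ from pullback.lift_snd _ _ _,
        pullback.lift_snd]

variable {Z : Type u} [Group Z]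

/-- Constant groups stay constant after base change. -/
theorem isConstGrp_bc (φ : S' ⟶ S) (e : G ≅ TwC.const S Z) (he : TwC.IsConstGrp Z G e) :
    TwC.IsConstGrp Z (Red.bc φ G) ((Over.pullback φ).mapIso e ≪≫ constBC φ Z) := by
  have key : ∀ m : Z, fl φ G (TwC.pt S' Z m ≫ ((Over.pullback φ).mapIso e ≪≫ constBC φ Z).inv) =
      toUnit _ ≫ TwC.pt S Z m ≫ e.inv := fun m => by
    have h0 : ((Over.mapPullbackAdj φ).homEquiv _ _).symm (TwC.pt S' Z m ≫ (constBC φ Z).inv) =
        toUnit _ ≫ TwC.pt S Z m := by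
      rw [show (constBC φ Z).inv = (Over.mapPullbackAdj φ).homEquiv _ _ (constToBase φ Z) from rfl,
        Adjunction.homEquiv_naturality_left_symm, Equiv.symm_apply_apply]
      refine Over.OverMorphism.ext ?_
      show Sigma.ι (fun _ : Z => S') m ≫ (constToBase φ Z).left =
        (toUnit ((Over.map φ).obj (𝟙_ (Over S')))).left ≫ Sigma.ι (fun _ : Z => S) m
      refine (Sigma.ι_desc _ m).trans ?_
      congr 1
    show fl φ G (TwC.pt S' Z m ≫ (constBC φ Z).inv ≫ (Over.pullback φ).map e.inv) = _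
    rw [← Category.assoc, fl, Adjunction.homEquiv_naturality_right_symm, h0, Category.assoc]
  intro m n
  refine fl_injective φ G ?_
  rw [fl_mul, key, key, key, ← MonObj.comp_mul, he]

end BC

theorem isOfFinOrder_lattice {r : ℕ} (z : ULift.{u} (Multiplicative (Fin r → ℤ))) (hz : IsOfFinOrder z) : z = 1 := by
  obtain ⟨n, hn, hzn⟩ := isOfFinOrder_iff_pow_eq_one.1 hz
  refine ULift.ext _ _ (Multiplicative.toAdd.injective (funext fun i => ?_))
  have h := congrFun (congrArg (fun w : ULift.{u} (Multiplicative (Fin r → ℤ)) => Multiplicative.toAdd w.down) hzn) i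
  have h' : (n : ℤ) * Multiplicative.toAdd z.down i = 0 := by simpa [toAdd_pow] using h
  rcases mul_eq_zero.1 h' with h0 | h0
  · exact absurd h0 (by exact_mod_cast hn.ne')
  · simpa using h0

/-- A lattice constant group as a constant group on a type in the ambient universe. -/
theorem exists_const_ulift {S : Scheme.{u}} {r : ℕ} {M : Over S} [GrpObj M]
    (e : M ≅ TwC.const S (Multiplicative (Fin r → ℤ)))
    (he : TwC.IsConstGrp (Multiplicative (Fin r → ℤ)) M e) :
    ∃ e' : M ≅ TwC.const S (ULift.{u} (Multiplicative (Fin r → ℤ))), TwC.IsConstGrp _ M e' := by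
  let c := constEquiv (S := S) (Equiv.ulift.{u} (α := Multiplicative (Fin r → ℤ))).symm
  refine ⟨e ≪≫ c, fun m n => ?_⟩
  have h : ∀ m : ULift.{u} (Multiplicative (Fin r → ℤ)), TwC.pt S _ m ≫ (e ≪≫ c).inv = TwC.pt S _ m.down ≫ e.inv :=
    fun m => by
      show TwC.pt S _ m ≫ TwC.constMap S _ ≫ e.inv = _
      rw [← Category.assoc, pt_constMap]
      rfl
  rw [h, h, h]
  exact he m.down n.down

variable {S : Scheme.{u}} {P E M : Over S} [GrpObj P] [GrpObj E] [GrpObj M] {u : M ⟶ E} {v : E ⟶ P}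

/-- The projection of a twice base changed object. -/
abbrev prj {S₁ S₂ : Scheme.{u}} (g : S₁ ⟶ S) (x : S₂ ⟶ S₁) (X : Over S) : (Red.bc x (Red.bc g X)).left ⟶ X.left :=
  pullback.fst (Red.bc g X).hom x ≫ pullback.fst X.hom g

theorem surj_prj {S₁ S₂ : Scheme.{u}} (g : S₁ ⟶ S) (x : S₂ ⟶ S₁) (X : Over S) (a : X.left) (b : S₂)
    (h : X.hom a = g (x b)) : ∃ r, prj g x X r = a := by
  obtain ⟨r₁, h1, h2⟩ := Scheme.Pullback.exists_preimage_pullback (f := X.hom) (g := g) a (x b) h
  obtain ⟨r, h3, -⟩ := Scheme.Pullback.exists_preimage_pullback (f := (Red.bc g X).hom) (g := x) r₁ b h2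
  exact ⟨r, (Scheme.Hom.comp_apply _ _ r).trans ((congrArg _ h3).trans h1)⟩

theorem neutralSet_prj {S₁ : Scheme.{u}} {L : Type u} [Field L] (g : S₁ ⟶ S)
    (x : Spec (CommRingCat.of L) ⟶ S₁) :
    prj g x E ⁻¹' SGA3x.neutralSet E = comp₀ (Red.bc x (Red.bc g E)) := by
  have h1 := GrpNeutral20.neutralSet_bc (Red.bc g E) x
  rw [GrpNeutral20.neutralSet_bc E g, GrpNeutral20.neutralSet_eq_of_subsingleton _
    (show ↥(𝟙_ (Over (Spec (CommRingCat.of L)))).left from IsLocalRing.closedPoint L)] at h1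
  exact Set.ext fun z => (Set.ext_iff.1 h1 z).symm

variable (hM : TwC.Locally S TwC.Topology.fpqc (fun S' f =>
    ∃ (r : ℕ) (e : Red.bc f M ≅ TwC.const S' (Multiplicative (Fin r → ℤ))),
      TwC.IsConstGrp (Multiplicative (Fin r → ℤ)) (Red.bc f M) e))

include hM

theorem etale_hom : Etale M.hom := by
  obtain ⟨κ, V, f, hf, hV, -⟩ := exists_cover_of_fpqc hM
  refine prop_of_fpqc_cover f hf @Etale _ fun i => ?_
  obtain ⟨r, e, -⟩ := (hV i).2.2
  haveI : IsIso e.hom.left := (inferInstance : IsIso ((Over.forget _).map e.hom))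
  rw [← show e.hom.left ≫ (TwC.const (V i) _).hom = pullback.snd M.hom (f i) from Over.w e.hom]
  exact (MorphismProperty.cancel_left_of_respectsIso @Etale _ _).2 etale_const

/-- Over a geometric point the twisted lattice is a constant group. -/
theorem exists_const_pt (s : S) :
    ∃ (S₁ : Scheme.{u}) (g : S₁ ⟶ S) (L : Type u) (_ : Field L) (x : Spec (CommRingCat.of L) ⟶ S₁) (r : ℕ)
      (e : Red.bc x (Red.bc g M) ≅ TwC.const (Spec (CommRingCat.of L)) (ULift.{u} (Multiplicative (Fin r → ℤ)))),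
      TwC.IsConstGrp _ (Red.bc x (Red.bc g M)) e ∧ ∀ b, g (x b) = s := by
  obtain ⟨S', f, -, hsurj, -, hloc⟩ := hM
  obtain ⟨s', rfl⟩ := hsurj.surj s
  obtain ⟨U, hU, r, e, he⟩ := hloc s'
  obtain ⟨e', he'⟩ := exists_const_ulift e he
  exact ⟨_, U.ι ≫ f, _, inferInstance, U.toScheme.fromSpecResidueField (⟨s', hU⟩ : U.toScheme), r, _,
    isConstGrp_bc _ e' he', fun b => congrArg (fun w : U.toScheme => f (U.ι w))
      (Scheme.fromSpecResidueField_apply (X := U.toScheme) ⟨s', hU⟩ b)⟩

variable [Smooth P.hom] [GeometricallyConnected P.hom] (hex : NonAbH1.IsExactSeq Scheme.fppfPrecoverage u v)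

include hex

theorem smooth_hom : Smooth E.hom := by
  haveI := etale_hom hM
  haveI := etale_of_isExactSeq hex
  rw [← Over.w v]
  infer_instance

theorem isOpen_neutral : IsOpen (SGA3x.neutralSet E) := by
  haveI := smooth_hom hM hex
  haveI : Smooth ((⊤ : E.left.Opens).ι ≫ E.hom) := inferInstance
  exact GrpNeutral20.isOpen_of_smooth E ⊤ fun _ => trivial

/-- Two maps into the neutral components with the same image agree. -/
theorem eq_of_mem_neutral {T : Over S} (a b : T ⟶ E) (h : a ≫ v = b ≫ v)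
    (ha : ∀ t, a.left t ∈ SGA3x.neutralSet E) (hb : ∀ t, b.left t ∈ SGA3x.neutralSet E) : a = b := by
  haveI := etale_hom hM
  haveI := etale_of_isExactSeq hex
  haveI := smooth_hom hM hex
  let C : E.left.Opens := ⟨_, isOpen_neutral hM hex⟩
  let h₀ : C.toScheme ⟶ P.left := C.ι ≫ v.left
  haveI hd : Surjective (pullback.diagonal h₀) := ⟨fun q => by
    let m := pullback.fst h₀ h₀ ≫ C.ι ≫ E.hom
    obtain ⟨S₁, g, L, _, x, r, e, he, hx⟩ := exists_const_pt hM (m q)
    obtain ⟨w, hw, -⟩ := Scheme.Pullback.exists_preimage_pullback (f := m) (g := x ≫ g) q (IsLocalRing.closedPoint L)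
      (by rw [Scheme.Hom.comp_apply]; exact (hx _).symm)
    let TL : Over (Spec (CommRingCat.of L)) := Over.mk (pullback.snd m (x ≫ g))
    let T₀ : Over S := (Over.map g).obj ((Over.map x).obj TL)
    have hc1 : (pullback.fst m (x ≫ g) ≫ pullback.fst h₀ h₀ ≫ C.ι) ≫ E.hom = T₀.hom := by
      show _ = (pullback.snd m (x ≫ g) ≫ x) ≫ g
      rw [Category.assoc _ x g, ← pullback.condition]
      simp only [m, Category.assoc]
    have hc2 : (pullback.fst m (x ≫ g) ≫ pullback.snd h₀ h₀ ≫ C.ι) ≫ E.hom = T₀.hom := by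
      rw [← hc1]
      simp only [Category.assoc, ← Over.w v]
      congr 1
      simpa [h₀] using (pullback.condition_assoc (f := h₀) (g := h₀) P.hom).symm
    let a₀ : T₀ ⟶ E := Over.homMk _ hc1
    let b₀ : T₀ ⟶ E := Over.homMk _ hc2
    obtain ⟨a₁, ha₁⟩ := fl_surjective g E a₀
    obtain ⟨a', ha'⟩ := fl_surjective x (Red.bc g E) a₁
    obtain ⟨b₁, hb₁⟩ := fl_surjective g E b₀
    obtain ⟨b', hb'⟩ := fl_surjective x (Red.bc g E) b₁
    have hmem : ∀ (c₀ : T₀ ⟶ E) (c₁ : (Over.map x).obj TL ⟶ Red.bc g E) (c' : TL ⟶ Red.bc x (Red.bc g E)),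
        fl g E c₁ = c₀ → fl x (Red.bc g E) c' = c₁ → (∀ t, c₀.left t ∈ SGA3x.neutralSet E) →
        ∀ t, c'.left t ∈ comp₀ (Red.bc x (Red.bc g E)) := fun c₀ c₁ c' h1 h2 h3 t => by
      rw [← neutralSet_prj g x]
      have hl : c₀.left = c'.left ≫ prj g x E := by
        rw [← h1, fl_left, ← h2, fl_left, Category.assoc]
      show prj g x E (c'.left t) ∈ SGA3x.neutralSet E
      rw [← Scheme.Hom.comp_apply, ← hl]
      exact h3 t
    haveI : Smooth (Red.bc g P).hom := MorphismProperty.pullback_snd _ _ ‹Smooth P.hom›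
    haveI : Smooth (Red.bc x (Red.bc g P)).hom := MorphismProperty.pullback_snd _ _ ‹Smooth (Red.bc g P).hom›
    haveI := AbRigid.isSeparated_of_grpObj (Red.bc x (Red.bc g P))
    have heq : a' = b' := by
      refine eq_of_range_subset (isExactSeq_bc (isExactSeq_bc hex g) x) he isOfFinOrder_lattice a' b' ?_
        (hmem _ _ _ ha₁ ha' fun t => ((pullback.fst m (x ≫ g) ≫ pullback.fst h₀ h₀) t).2)
        (hmem _ _ _ hb₁ hb' fun t => ((pullback.fst m (x ≫ g) ≫ pullback.snd h₀ h₀) t).2)
      refine fl_injective x (Red.bc g P) (fl_injective g P ?_)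
      simp only [fl_comp_map, ha', hb', ha₁, hb₁]
      refine Over.OverMorphism.ext ?_
      show (pullback.fst m (x ≫ g) ≫ pullback.fst h₀ h₀ ≫ C.ι) ≫ v.left =
        (pullback.fst m (x ≫ g) ≫ pullback.snd h₀ h₀ ≫ C.ι) ≫ v.left
      simp only [Category.assoc]
      exact congrArg _ pullback.condition
    have h0 : a₀.left = b₀.left := by rw [← ha₁, ← hb₁, ← ha', ← hb', heq]
    have h1 : pullback.fst m (x ≫ g) ≫ pullback.fst h₀ h₀ = pullback.fst m (x ≫ g) ≫ pullback.snd h₀ h₀ := by
      rw [← cancel_mono C.ι, Category.assoc, Category.assoc]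
      exact h0
    refine ⟨(pullback.fst m (x ≫ g) ≫ pullback.fst h₀ h₀) w, ?_⟩
    have h2 : (pullback.fst m (x ≫ g) ≫ pullback.fst h₀ h₀) ≫ pullback.diagonal h₀ = pullback.fst m (x ≫ g) := by
      apply pullback.hom_ext
      · simp
      · rw [Category.assoc, Category.assoc, pullback.diagonal_snd, Category.comp_id]; exact h1
    rw [← Scheme.Hom.comp_apply, h2, hw]⟩
  haveI : Etale h₀ := MorphismProperty.comp_mem _ _ _ inferInstance ‹Etale v.left›
  haveI : IsIso (pullback.diagonal h₀) :=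
    (isIso_iff_isOpenImmersion_and_surjective _).2 ⟨inferInstance, inferInstance⟩
  haveI : Mono h₀ := (pullback.isIso_diagonal_iff h₀).1 inferInstance
  have hra : Set.range a.left ⊆ Set.range C.ι := by
    rintro _ ⟨t, rfl⟩; rw [Scheme.Opens.range_ι]; exact ha t
  have hrb : Set.range b.left ⊆ Set.range C.ι := by
    rintro _ ⟨t, rfl⟩; rw [Scheme.Opens.range_ι]; exact hb t
  refine Over.OverMorphism.ext ?_
  rw [← IsOpenImmersion.lift_fac C.ι a.left hra, ← IsOpenImmersion.lift_fac C.ι b.left hrb]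
  congr 1
  refine (cancel_mono h₀).1 ?_
  rw [← Category.assoc, ← Category.assoc, IsOpenImmersion.lift_fac, IsOpenImmersion.lift_fac]
  exact congrArg (fun c : T ⟶ P => c.left) h

omit [Smooth P.hom] [GeometricallyConnected P.hom] hM hex in
theorem mem_neutral_of_geomConn {Y : Over S} [GeometricallyConnected Y.hom] (o : 𝟙_ (Over S) ⟶ Y) (f : Y ⟶ E)
    (ho : o ≫ f = η[E]) (y : Y.left) : f.left y ∈ SGA3x.neutralSet E := by
  let s : S := Y.hom y
  have hf : ∀ z, E.hom (f.left z) = Y.hom z := fun z => by rw [← Scheme.Hom.comp_apply, Over.w f]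
  rw [GrpNeutral20.mem_iff, hf]
  refine ((Y.hom.isConnected_preimage_singleton s).isPreconnected.image _ f.left.continuous.continuousOn).subset_connectedComponentIn
    ⟨o.left s, ?_, ?_⟩ ?_ ⟨y, rfl, rfl⟩
  · show Y.hom (o.left s) = s
    rw [← Scheme.Hom.comp_apply, Over.w o]; rfl
  · rw [← Scheme.Hom.comp_apply, ← Over.comp_left, ho]
  · rintro _ ⟨z, hz, rfl⟩
    show E.hom (f.left z) = s
    rw [hf]; exact hz

/-- Homomorphisms to the kernel are trivial and the extension splits. -/
theorem trivial_and_splits :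
    (∀ φ : P ⟶ M, IsMonHom φ → φ = 1) ∧ ∃ s : P ⟶ E, IsMonHom s ∧ s ≫ v = 𝟙 P := by
  haveI := hex.1; haveI := hex.2.1
  haveI := etale_hom hM
  haveI := etale_of_isExactSeq hex
  haveI := smooth_hom hM hex
  have hη1 : (η[E] : 𝟙_ _ ⟶ E) = 1 := by rw [Hom.one_def, toUnit_unique (toUnit _) (𝟙 _), Category.id_comp]
  refine ⟨fun φ hφ => ?_, ?_⟩
  · haveI := hφ
    refine CentExt24.cancel_u hex ?_
    rw [MonObj.one_comp]
    refine eq_of_mem_neutral hM hex _ _ ?_ (mem_neutral_of_geomConn η[P] _ (IsMonHom.one_hom (φ ≫ u)))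
      (mem_neutral_of_geomConn η[P] _ (by rw [MonObj.comp_one, hη1]))
    rw [Category.assoc, hex.2.2.1, MonObj.comp_one, MonObj.one_comp]
  let C : E.left.Opens := ⟨_, isOpen_neutral hM hex⟩
  let h₀ : C.toScheme ⟶ P.left := C.ι ≫ v.left
  haveI : Mono h₀ := ⟨fun {T} a b hab => by
    let T' : Over S := Over.mk (a ≫ C.ι ≫ E.hom)
    have hw : (b ≫ C.ι) ≫ E.hom = T'.hom := by
      show (b ≫ C.ι) ≫ E.hom = a ≫ C.ι ≫ E.hom
      rw [← Over.w v]
      simpa only [h₀, Category.assoc] using (congrArg (fun q => q ≫ P.hom) hab).symm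
    let x : T' ⟶ E := Over.homMk (a ≫ C.ι) (by simp [T'])
    let y : T' ⟶ E := Over.homMk (b ≫ C.ι) hw
    have hxy : x = y := eq_of_mem_neutral hM hex x y
      (Over.OverMorphism.ext (by simpa [x, y, h₀] using hab))
      (fun t => (a t).2) (fun t => (b t).2)
    exact (cancel_mono C.ι).1 (congrArg (fun q : T' ⟶ E => q.left) hxy)⟩
  haveI : Etale h₀ := MorphismProperty.comp_mem _ _ _ inferInstance ‹Etale v.left›
  haveI : IsOpenImmersion h₀ := IsOpenImmersion.of_flat_of_mono h₀
  haveI : Surjective h₀ := ⟨fun p => by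
    obtain ⟨S₁, g, L, _, x, r, e, he, hx⟩ := exists_const_pt hM (P.hom p)
    haveI : Smooth (Red.bc g P).hom := MorphismProperty.pullback_snd _ _ ‹Smooth P.hom›
    haveI : Smooth (Red.bc x (Red.bc g P)).hom := MorphismProperty.pullback_snd _ _ ‹Smooth (Red.bc g P).hom›
    haveI : GeometricallyConnected (Red.bc g P).hom := inferInstanceAs (GeometricallyConnected (pullback.snd P.hom g))
    haveI : GeometricallyConnected (Red.bc x (Red.bc g P)).hom :=
      inferInstanceAs (GeometricallyConnected (pullback.snd (Red.bc g P).hom x))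
    haveI : ConnectedSpace ↥(Red.bc x (Red.bc g P)).left :=
      GeometricallyConnected.connectedSpace_of_subsingleton (f := (Red.bc x (Red.bc g P)).hom)
    have hex' := isExactSeq_bc (isExactSeq_bc hex g) x
    obtain ⟨-, sL, hsL, hsLv⟩ := rigid_and_splits hex' he isOfFinOrder_lattice
    haveI := hsL
    let pt : Spec (CommRingCat.of L) := IsLocalRing.closedPoint L
    obtain ⟨q, hq⟩ := surj_prj g x P p pt (hx pt).symm
    have hc : sL.left q ∈ comp₀ (Red.bc x (Red.bc g E)) := by
      have hsub := sL.left.continuous.image_connectedComponent_subset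
        (η[Red.bc x (Red.bc g P)].left pt)
      rw [PreconnectedSpace.connectedComponent_eq_univ,
        show sL.left (η[Red.bc x (Red.bc g P)].left pt) = η[Red.bc x (Red.bc g E)].left pt from
          congrArg (fun z => z.left pt) (IsMonHom.one_hom sL)] at hsub
      exact hsub ⟨q, trivial, rfl⟩
    rw [← neutralSet_prj g x] at hc
    refine ⟨⟨prj g x E (sL.left q), hc⟩, ?_⟩
    show v.left (prj g x E (sL.left q)) = p
    have hnat : ((Over.pullback x).map ((Over.pullback g).map v)).left ≫ prj g x P = prj g x E ≫ v.left := by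
      simp [prj]
    rw [← Scheme.Hom.comp_apply, ← hnat, Scheme.Hom.comp_apply]
    rw [show ((Over.pullback x).map ((Over.pullback g).map v)).left (sL.left q) = q from
      congrArg (fun z => z.left q) hsLv]
    exact hq⟩
  haveI : IsIso h₀ := (isIso_iff_isOpenImmersion_and_surjective _).2 ⟨inferInstance, inferInstance⟩
  let s : P ⟶ E := Over.homMk (inv h₀ ≫ C.ι) (by
    rw [Category.assoc, IsIso.inv_comp_eq]
    show C.ι ≫ E.hom = (C.ι ≫ v.left) ≫ P.hom
    rw [Category.assoc, Over.w v])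
  have hsv : s ≫ v = 𝟙 P := Over.OverMorphism.ext (by
    show (inv h₀ ≫ C.ι) ≫ v.left = 𝟙 _
    rw [Category.assoc]; exact IsIso.inv_hom_id h₀)
  have hsC : ∀ p, s.left p ∈ SGA3x.neutralSet E := fun p => ((inv h₀) p).2
  have hs1 : η[P] ≫ s = η[E] := by
    refine eq_of_mem_neutral hM hex _ _ ?_ (fun t => hsC _) (fun t => GrpNeutral20.unit_mem E t)
    rw [Category.assoc, hsv, Category.comp_id, IsMonHom.one_hom]
  haveI : GeometricallyConnected (P ⊗ P).hom := by
    show GeometricallyConnected (pullback.fst P.hom P.hom ≫ P.hom)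
    haveI : UniversallyOpen P.hom := inferInstance
    exact GeometricallyConnected.comp _ _
  refine ⟨s, TorsorSch25.isMonHom_of_points s fun T p q => ?_, hsv⟩
  have key : μ[P] ≫ s = (fst P P ≫ s) * (snd P P ≫ s) := by
    refine eq_of_mem_neutral hM hex _ _ ?_ (fun t => hsC _) (mem_neutral_of_geomConn (lift η[P] η[P]) _ ?_)
    · rw [Category.assoc, hsv, Category.comp_id, MonObj.mul_comp, Category.assoc, Category.assoc, hsv,
        Category.comp_id, Category.comp_id, Hom.mul_def, lift_fst_snd, Category.id_comp]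
    · rw [MonObj.comp_mul, lift_fst_assoc, lift_snd_assoc, hs1, hη1, _root_.one_mul]
  have h2 := congrArg (fun r => lift p q ≫ r) key
  simp only [MonObj.comp_mul, lift_fst_assoc, lift_snd_assoc] at h2
  rw [← h2, Hom.mul_def, Category.assoc]

end Groth.Agent.ConstExt19
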