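import Groth.Agent.Lib.ConstExt19.Extend
import Groth.Agent.Lib.ConstExt19.Split
import Groth.Agent.S9812

/-!
# Extensions by torsion-free constant groups extend from the generic fibre
-/

set_option autoImplicit false
set_option linter.style.haveILetI false
set_option linter.unusedSectionVars false
set_option backward.isDefEq.respectTransparency false
set_option backward.isDefEq.respectTransparency.types false
set_option maxSynthPendingDepth 3

universe u

open CategoryTheory CategoryTheory.Limits MonoidalCategory CartesianMonoidalCategory MonObj AlgebraicGeometry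

noncomputable section

namespace Groth.Agent.ConstExt19

open MTRigid29 DiagGL

/-- The torsor of a surjection with constant kernel. -/
theorem exists_torsor {S₀ : Scheme.{u}} {G E P : Over S₀} [GrpObj G] [GrpObj E] [GrpObj P] {u : G ⟶ E} {v : E ⟶ P}
    (hex : NonAbH1.IsExactSeq Scheme.fppfPrecoverage u v) :
    ∃ T : NonAbH1.TorsorSch (Red.bc P.hom G) Scheme.fppfPrecoverage, T.X = Over.mk v.left := by
  haveI := hex.1; haveI := hex.2.1
  let φ := P.hom
  let G₁ := Red.bc φ G
  let X : Over P.left := Over.mk v.left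
  let j : (Over.map φ).obj X ⟶ E := Over.homMk (𝟙 E.left) (by simp [φ, X])
  let act₀ : (Over.map φ).obj (G₁ ⊗ X) ⟶ E := (fl φ G (fst G₁ X) ≫ u) * ((Over.map φ).map (snd G₁ X) ≫ j)
  have hact₀ : act₀ ≫ v = (Over.map φ).map (snd G₁ X) ≫ j ≫ v := by
    rw [MonObj.mul_comp, Category.assoc, hex.2.2.1, MonObj.comp_one, _root_.one_mul, Category.assoc]
  let act : G₁ ⊗ X ⟶ X := Over.homMk act₀.left (by
    refine (congrArg (fun r : (Over.map φ).obj (G₁ ⊗ X) ⟶ P => r.left) hact₀).trans ?_
    show (snd G₁ X).left ≫ 𝟙 E.left ≫ v.left = (G₁ ⊗ X).hom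
    exact (congrArg (fun r => (snd G₁ X).left ≫ r) (Category.id_comp v.left)).trans (Over.w (snd G₁ X)))
  have hactj : (Over.map φ).map act ≫ j = act₀ := Over.OverMorphism.ext (Category.comp_id _)
  have hfl : ∀ {T T' : Over P.left} (t : T' ⟶ T) (g : T ⟶ G₁),
      (Over.map φ).map t ≫ fl φ G g = fl φ G (t ≫ g) := fun t g => ((Over.mapPullbackAdj φ).homEquiv_naturality_left_symm t g).symm
  have hpt : ∀ {T : Over P.left} (g : T ⟶ G₁) (x : T ⟶ X),
      (Over.map φ).map (lift g x ≫ act) ≫ j = (fl φ G g ≫ u) * ((Over.map φ).map x ≫ j) := by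
    intro T g x
    rw [Functor.map_comp, Category.assoc, hactj]
    show (Over.map φ).map (lift g x) ≫ ((fl φ G (fst G₁ X) ≫ u) * ((Over.map φ).map (snd G₁ X) ≫ j)) = _
    rw [MonObj.comp_mul, ← Category.assoc, hfl, lift_fst, ← Category.assoc, ← Functor.map_comp, lift_snd]
  have hinj : ∀ {T : Over P.left} (a b : T ⟶ X), (Over.map φ).map a ≫ j = (Over.map φ).map b ≫ j → a = b :=
    fun a b h => Over.OverMorphism.ext ((Category.comp_id _).symm.trans ((congrArg (fun r => r.left) h).trans (Category.comp_id _)))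
  let A : AlgGrp.Action G₁ X :=
    { act := act
      one_act := by
        refine hinj _ _ ?_
        rw [show η[G₁] ▷ X = lift (fst _ _ ≫ η[G₁]) (snd _ _) by ext <;> simp, hpt,
          show fst (𝟙_ _) X ≫ η[G₁] = 1 by rw [Hom.one_def, toUnit_unique (fst (𝟙_ _) X) (toUnit _)],
          fl_one, MonObj.one_comp, _root_.one_mul]
        rfl
      mul_act := by
        refine hinj _ _ ?_
        rw [show μ[G₁] ▷ X = lift ((fst _ _ ≫ fst _ _) * (fst _ _ ≫ snd _ _)) (snd _ _) by
            rw [Hom.mul_def]; ext <;> simp [← comp_lift_assoc],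
          hpt, fl_mul, MonObj.mul_comp, _root_.mul_assoc, ← hpt (fst (G₁ ⊗ G₁) X ≫ snd G₁ G₁) (snd _ _), ← hpt]
        refine congrArg (fun r => (Over.map φ).map r ≫ j) ?_
        rw [← Category.assoc (α_ G₁ G₁ X).hom]
        refine congrArg (fun r => r ≫ act) ?_
        apply CartesianMonoidalCategory.hom_ext
        · simp
        · rw [lift_snd, Category.assoc, whiskerLeft_snd, ← Category.assoc]
          refine congrArg (fun r => r ≫ act) ?_
          apply CartesianMonoidalCategory.hom_ext <;> simp }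
  refine ⟨⟨X, A, ?_, hex.2.2.2.2⟩, rfl⟩
  show IsIso (lift act (snd G₁ X))
  let a₁ := (Over.map φ).map (fst X X) ≫ j
  let a₂ := (Over.map φ).map (snd X X) ≫ j
  have hv : ∀ {T : Over P.left} (x : T ⟶ X), ((Over.map φ).map x ≫ j ≫ v).left = T.hom := fun x => by
    exact (congrArg (fun r => x.left ≫ r) (Category.id_comp v.left)).trans (Over.w x)
  have h12 : (a₁ * a₂⁻¹) ≫ v = 1 := by
    rw [MonObj.mul_comp, GrpObj.inv_comp, mul_inv_eq_one, Category.assoc, Category.assoc]
    exact Over.OverMorphism.ext ((hv _).trans (hv _).symm)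
  obtain ⟨g₀, hg₀⟩ := CentExt24.exists_u hex _ h12
  obtain ⟨g, rfl⟩ := fl_surjective φ G g₀
  have hinv2 : lift g (snd X X) ≫ act = fst X X := by
    refine hinj _ _ ?_
    rw [hpt, hg₀, inv_mul_cancel_right]
  refine ⟨lift g (snd X X), ?_, ?_⟩
  · refine CartesianMonoidalCategory.hom_ext _ _ (fl_injective φ G ?_) (by simp)
    rw [Category.id_comp, Category.assoc, lift_fst, ← hfl]
    refine CentExt24.cancel_u hex ?_
    rw [Category.assoc, hg₀, MonObj.comp_mul, GrpObj.comp_inv, ← Category.assoc, ← Category.assoc,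
      ← Functor.map_comp, ← Functor.map_comp, lift_fst, lift_snd, hactj]
    exact mul_inv_eq_of_eq_mul rfl
  · apply CartesianMonoidalCategory.hom_ext
    · rw [Category.id_comp, Category.assoc, lift_fst, hinv2]
    · simp

/-- An extension of a smooth group over a field by a torsion-free constant group has a section of schemes. -/
theorem exists_section_field {K : Type u} [Field K] {G E P : Over (Spec (CommRingCat.of K))} [GrpObj G] [GrpObj E]
    [GrpObj P] [Smooth P.hom] {Z : Type u} [Group Z] (eG : G ≅ TwC.const (Spec (CommRingCat.of K)) Z)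
    (hG : TwC.IsConstGrp Z G eG) (hZ : ∀ z : Z, IsOfFinOrder z → z = 1) {u : G ⟶ E} {v : E ⟶ P}
    (hex : NonAbH1.IsExactSeq Scheme.fppfPrecoverage u v) : ∃ σ : P ⟶ E, σ ≫ v = 𝟙 P := by
  obtain ⟨T, hT⟩ := exists_torsor hex
  haveI : IrreducibleSpace ↥(Spec (CommRingCat.of K)) := inferInstance
  have hK : ∀ s : Spec (CommRingCat.of K), CAlg2.IsGeomUnibranch ((Spec (CommRingCat.of K)).presheaf.stalk s) := by
    intro s
    let p : Ideal K := s.asIdeal
    have hp : p.primeCompl ≤ IsUnit.submonoid K := fun x hx => IsUnit.mk0 _ fun h => hx (h ▸ p.zero_mem)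
    exact S4936.gu_of_equiv ((IsLocalization.atUnits K p.primeCompl hp (S := Localization.AtPrime p)).toRingEquiv.trans
      (Spec.stalkIso (CommRingCat.of K) s).commRingCatIsoToRingEquiv.symm) (S9812.result K)
  obtain ⟨σ, hσ⟩ := Torsor.exists_section_of_unibranch P.hom _ T (isConstGrp_bc P.hom eG hG) hK hZ
  obtain ⟨X, A, hA⟩ := T
  subst hT
  change σ ≫ v.left = 𝟙 P.left at hσ
  exact ⟨Over.homMk σ (by rw [← Over.w v, ← Category.assoc, hσ, Category.id_comp]), Over.OverMorphism.ext hσ⟩


end Groth.Agent.ConstExt19
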