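import Groth.Agent.Lib.ConstExt19.GenExt

/-!
# Extensions by torsion-free constant groups extend from the generic fibre: the construction
-/

set_option autoImplicit false
set_option linter.style.haveILetI false
set_option linter.unusedSectionVars false
set_option backward.isDefEq.respectTransparency false
set_option backward.isDefEq.respectTransparency.types false
set_option maxSynthPendingDepth 3

universe u

open CategoryTheory CategoryTheory.Limits MonoidalCategory CartesianMonoidalCategory MonObj AlgebraicGeometry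

noncomputable section

namespace Groth.Agent.ConstExt19

open MTRigid29 DiagGL

/-- Restriction to the generic fibre. -/
abbrev res {S : Scheme.{u}} {ξ : S} {A B : Over S} (f : A ⟶ B) :
    Red.bc (S.fromSpecResidueField ξ) A ⟶ Red.bc (S.fromSpecResidueField ξ) B :=
  (Over.pullback (S.fromSpecResidueField ξ)).map f

variable {S : Scheme.{u}} [IrreducibleSpace S] (hS : ∀ s : S, CAlg2.IsGeomUnibranch (S.presheaf.stalk s))
  {ξ : S} (hξ : IsGenericPoint ξ (Set.univ : Set S))
  {Z : Type u} [Group Z] {G P : Over S} [GrpObj G] [GrpObj P] (eG : G ≅ TwC.const S Z)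
  {E' : Over (Spec (S.residueField ξ))} [GrpObj E']
  {u' : Red.bc (S.fromSpecResidueField ξ) G ⟶ E'} {v' : E' ⟶ Red.bc (S.fromSpecResidueField ξ) P}

theorem res_comp {A B C : Over S} (f : A ⟶ B) (g : B ⟶ C) : res (ξ := ξ) (f ≫ g) = res f ≫ res g :=
  Functor.map_comp _ _ _

theorem res_mul {A : Over S} (a b : A ⟶ P) : res (ξ := ξ) (a * b) = res a * res b :=
  (Over.pullback (S.fromSpecResidueField ξ)).map_mul a b

theorem res_one (A : Over S) : res (ξ := ξ) (1 : A ⟶ P) = 1 :=
  (Over.pullback (S.fromSpecResidueField ξ)).map_one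

theorem res_inv {A : Over S} (a : A ⟶ P) : res (ξ := ξ) a⁻¹ = (res a)⁻¹ :=
  (Over.pullback (S.fromSpecResidueField ξ)).map_inv' a

section Model

variable {E : Over S} [Smooth E.hom] (pr : E ⟶ P) (φ : Red.bc (S.fromSpecResidueField ξ) E ⟶ E') [IsMonHom v']
  (hφv : φ ≫ v' = res pr)
  (hext : ∀ (T : Over S), Smooth T.hom → ∀ x y : T ⟶ E, x ≫ pr = y ≫ pr → res x ≫ φ = res y ≫ φ → x = y)
  (hlift : ∀ (T : Over S), Smooth T.hom → ∀ (p : T ⟶ P) (e : Red.bc (S.fromSpecResidueField ξ) T ⟶ E'),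
    e ≫ v' = res p → ∃ x : T ⟶ E, x ≫ pr = p ∧ res x ≫ φ = e)

include hφv hext hlift in
/-- The group law of the generic fibre extends to the model. -/
theorem exists_grpObj :
    ∃ _ : GrpObj E, IsMonHom pr ∧ ∀ (T : Over S) (x y : T ⟶ E), res (x * y) ≫ φ = (res x ≫ φ) * (res y ≫ φ) := by
  haveI hEE : Smooth (E ⊗ E).hom := inferInstanceAs (Smooth (pullback.fst E.hom E.hom ≫ E.hom))
  haveI hEEE : Smooth ((E ⊗ E) ⊗ E).hom := inferInstanceAs (Smooth (pullback.fst (E ⊗ E).hom E.hom ≫ (E ⊗ E).hom))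
  haveI hI : Smooth (𝟙_ (Over S)).hom := inferInstanceAs (Smooth (𝟙 S))
  haveI hIE : Smooth (𝟙_ (Over S) ⊗ E).hom := inferInstanceAs (Smooth (pullback.fst (𝟙 S) E.hom ≫ 𝟙 S))
  haveI hEI : Smooth (E ⊗ 𝟙_ (Over S)).hom := inferInstanceAs (Smooth (pullback.fst E.hom (𝟙 S) ≫ E.hom))
  have hv : ∀ {T : Over S} (x : T ⟶ E), (res x ≫ φ) ≫ v' = res (x ≫ pr) := fun x => by
    rw [Category.assoc, hφv, res_comp]
  obtain ⟨m, hm1, hm2⟩ := hlift (E ⊗ E) hEE ((fst E E ≫ pr) * (snd E E ≫ pr))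
    ((res (fst E E) ≫ φ) * (res (snd E E) ≫ φ)) (by rw [MonObj.mul_comp, hv, hv, res_mul])
  obtain ⟨o, ho1, ho2⟩ := hlift (𝟙_ _) hI 1 1 (by rw [MonObj.one_comp, res_one])
  obtain ⟨n, hn1, hn2⟩ := hlift E inferInstance pr⁻¹ φ⁻¹ (by rw [GrpObj.inv_comp, hφv, res_inv])
  have hmul1 : ∀ {T : Over S} (x y : T ⟶ E), (lift x y ≫ m) ≫ pr = (x ≫ pr) * (y ≫ pr) := by
    intro T x y
    rw [Category.assoc, hm1, MonObj.comp_mul, lift_fst_assoc, lift_snd_assoc]
  have hmul2 : ∀ {T : Over S} (x y : T ⟶ E), res (lift x y ≫ m) ≫ φ = (res x ≫ φ) * (res y ≫ φ) := by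
    intro T x y
    rw [res_comp, Category.assoc, hm2, MonObj.comp_mul, ← Category.assoc, ← res_comp, lift_fst,
      ← Category.assoc, ← res_comp, lift_snd]
  have hone1 : ∀ T : Over S, (toUnit T ≫ o) ≫ pr = 1 := fun T => by
    rw [Category.assoc, ho1, MonObj.comp_one]
  have hone2 : ∀ T : Over S, res (toUnit T ≫ o) ≫ φ = 1 := fun T => by
    rw [res_comp, Category.assoc, ho2, MonObj.comp_one]
  have h_one_mul : o ▷ E ≫ m = (λ_ E).hom := by
    have hl : o ▷ E = lift (toUnit _ ≫ o) (snd (𝟙_ _) E) := by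
      rw [← toUnit_unique (fst (𝟙_ _) E) (toUnit _)]
      apply CartesianMonoidalCategory.hom_ext <;> simp
    rw [hl, leftUnitor_hom]
    refine hext _ hIE _ _ ?_ ?_
    · rw [hmul1, hone1, _root_.one_mul]
    · rw [hmul2, hone2, _root_.one_mul]
  have h_mul_one : E ◁ o ≫ m = (ρ_ E).hom := by
    have hl : E ◁ o = lift (fst E (𝟙_ _)) (toUnit _ ≫ o) := by
      rw [← toUnit_unique (snd E (𝟙_ _)) (toUnit _)]
      apply CartesianMonoidalCategory.hom_ext <;> simp
    rw [hl, rightUnitor_hom]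
    refine hext _ hEI _ _ ?_ ?_
    · rw [hmul1, hone1, _root_.mul_one]
    · rw [hmul2, hone2, _root_.mul_one]
  have h_mul_assoc : (m ▷ E) ≫ m = (α_ E E E).hom ≫ (E ◁ m) ≫ m := by
    have hl : m ▷ E = lift (lift (fst _ _ ≫ fst E E) (fst _ _ ≫ snd E E) ≫ m) (snd (E ⊗ E) E) := by
      apply CartesianMonoidalCategory.hom_ext
      · rw [whiskerRight_fst, lift_fst, ← comp_lift, lift_fst_snd, Category.comp_id]
      · simp
    have hr : (α_ E E E).hom ≫ (E ◁ m) =
        lift (fst (E ⊗ E) E ≫ fst E E) (lift (fst (E ⊗ E) E ≫ snd E E) (snd (E ⊗ E) E) ≫ m) := by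
      apply CartesianMonoidalCategory.hom_ext
      · simp
      · rw [lift_snd, Category.assoc, whiskerLeft_snd, ← Category.assoc]
        refine congrArg (fun r => r ≫ m) ?_
        apply CartesianMonoidalCategory.hom_ext <;> simp
    rw [hl, ← Category.assoc, hr]
    refine hext _ hEEE _ _ ?_ ?_
    · simp only [hmul1, _root_.mul_assoc]
    · simp only [hmul2, _root_.mul_assoc]
  have hid : res (ξ := ξ) (𝟙 E) ≫ φ = φ := by
    show (Over.pullback _).map (𝟙 E) ≫ φ = φ
    rw [CategoryTheory.Functor.map_id, Category.id_comp]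
  let grp : GrpObj E :=
    { one := o
      mul := m
      one_mul := h_one_mul
      mul_one := h_mul_one
      mul_assoc := h_mul_assoc
      inv := n
      left_inv := by
        refine hext _ inferInstance _ _ ?_ ?_
        · rw [hmul1, hn1, hone1, Category.id_comp, inv_mul_cancel]
        · rw [hmul2, hn2, hid, hone2, inv_mul_cancel]
      right_inv := by
        refine hext _ inferInstance _ _ ?_ ?_
        · rw [hmul1, hn1, hone1, Category.id_comp, mul_inv_cancel]
        · rw [hmul2, hn2, hid, hone2, mul_inv_cancel] }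
  letI := grp
  exact ⟨grp, TorsorSch25.isMonHom_of_points _ fun T x y => hmul1 x y, fun T x y => hmul2 x y⟩

include hS hξ eG hφv hext hlift in
/-- The model is an extension over the whole base. -/
theorem exists_exact [Etale G.hom] [GrpObj E] [IsMonHom pr]
    (hmul : ∀ (T : Over S) (x y : T ⟶ E), res (x * y) ≫ φ = (res x ≫ φ) * (res y ≫ φ))
    (hex : NonAbH1.IsExactSeq Scheme.fppfPrecoverage u' v')
    (gE : E ⟶ G) (pair : ∀ {T : Over S}, (T ⟶ G) → (T ⟶ P) → (T ⟶ E))
    (hp1 : ∀ {T : Over S} (a : T ⟶ G) (b : T ⟶ P), pair a b ≫ gE = a)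
    (hp2 : ∀ {T : Over S} (a : T ⟶ G) (b : T ⟶ P), pair a b ≫ pr = b)
    (hpe : ∀ {T : Over S} (x y : T ⟶ E), x ≫ gE = y ≫ gE → x ≫ pr = y ≫ pr → x = y) :
    ∃ u : G ⟶ E, NonAbH1.IsExactSeq Scheme.fppfPrecoverage u pr ∧
      (Over.pullback (S.fromSpecResidueField ξ)).map u ≫ φ = u' := by
  haveI := hex.1
  have hv : ∀ {T : Over S} (x : T ⟶ E), (res x ≫ φ) ≫ v' = res (x ≫ pr) := fun x => by
    rw [Category.assoc, hφv, res_comp]
  haveI hGs : Smooth G.hom := inferInstance
  obtain ⟨u, hu1, hu2⟩ := hlift G hGs 1 u' (by rw [hex.2.2.1, res_one])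
  have hu2' : ∀ {T : Over S} (g : T ⟶ G), res (g ≫ u) ≫ φ = res g ≫ u' := fun g => by
    rw [res_comp, Category.assoc, hu2]
  haveI : Smooth (G ⊗ G).hom := inferInstanceAs (Smooth (pullback.fst G.hom G.hom ≫ G.hom))
  haveI huhom : IsMonHom u := by
    have key : μ[G] ≫ u = (fst G G ≫ u) * (snd G G ≫ u) := by
      refine hext (G ⊗ G) inferInstance _ _ ?_ ?_
      · rw [MonObj.mul_comp, Category.assoc, Category.assoc, Category.assoc, hu1, MonObj.comp_one, MonObj.comp_one,
          MonObj.comp_one, _root_.mul_one]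
      · rw [hmul, hu2', hu2', hu2', ← MonObj.mul_comp]
        refine congrArg (fun r => r ≫ u') ?_
        have : μ[G] = fst G G * snd G G := by rw [Hom.mul_def, lift_fst_snd, Category.id_comp]
        rw [this]
        exact (Over.pullback (S.fromSpecResidueField ξ)).map_mul _ _
    exact TorsorSch25.isMonHom_of_points u fun T x y => by
      have h2 := congrArg (fun r => lift x y ≫ r) key
      simp only [MonObj.comp_mul, lift_fst_assoc, lift_snd_assoc] at h2
      rw [← h2, Hom.mul_def, Category.assoc]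
  let W : Over S := G ⊗ E
  haveI hW : Smooth W.hom := inferInstanceAs (Smooth (pullback.fst G.hom E.hom ≫ G.hom))
  haveI hEG : Smooth (E ⊗ G).hom := inferInstanceAs (Smooth (pullback.fst E.hom G.hom ≫ E.hom))
  let xW : W ⟶ E := snd G E
  let yW : W ⟶ E := pair (fst G E) (snd G E ≫ pr)
  have hxy : xW ≫ pr = yW ≫ pr := (hp2 _ _).symm
  obtain ⟨k', hk', -⟩ := CentExt24.existsUnique_mul hex (res xW ≫ φ) (res yW ≫ φ) (by rw [hv, hv, hxy])
  obtain ⟨kW, hkW⟩ := exists_map_eq hS hξ eG k'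
  have hsolve : xW * (kW ≫ u) = yW := by
    refine hext W hW _ _ ?_ ?_
    · rw [MonObj.mul_comp, Category.assoc kW u, hu1, MonObj.comp_one, _root_.mul_one, hxy]
    · rw [hmul, hu2']
      show (res xW ≫ φ) * ((Over.pullback (S.fromSpecResidueField ξ)).map kW ≫ u') = res yW ≫ φ
      rw [hkW]; exact hk'
  have hsolve' : ∀ {T : Over S} (x y : T ⟶ E), x ≫ pr = y ≫ pr →
      x * ((lift (y ≫ gE) x ≫ kW) ≫ u) = y := by
    intro T x y h
    let t : T ⟶ W := lift (y ≫ gE) x
    have h2 := congrArg (fun r => t ≫ r) hsolve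
    simp only [MonObj.comp_mul] at h2
    have ty : t ≫ yW = y := hpe _ _ (by rw [Category.assoc, hp1, lift_fst]) (by
      rw [Category.assoc, hp2, ← Category.assoc, lift_snd, h])
    rw [show t ≫ xW = x from lift_snd _ _, ty, ← Category.assoc] at h2
    exact h2
  have huniq : lift ((fst E G * (snd E G ≫ u)) ≫ gE) (fst E G) ≫ kW = snd E G := by
    have h := hsolve' (fst E G) (fst E G * (snd E G ≫ u))
      (by rw [MonObj.mul_comp, Category.assoc, hu1, MonObj.comp_one, _root_.mul_one])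
    have h' := congrArg (fun r => res r ≫ φ) (mul_left_cancel h)
    simp only [hu2'] at h'
    exact eq_of_map_eq hξ eG (CentExt24.cancel_u hex h')
  have hpts : ∀ (T : Over S) (x y : T ⟶ E), x ≫ pr = y ≫ pr → ∃! k : T ⟶ G, x * (k ≫ u) = y := by
    intro T x y h
    refine ⟨lift (y ≫ gE) x ≫ kW, hsolve' x y h, fun k hk => ?_⟩
    have h2 := congrArg (fun r => lift x k ≫ r) huniq
    simp only [← Category.assoc, comp_lift, MonObj.comp_mul, lift_fst, lift_snd, hk] at h2
    exact h2.symm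
  haveI := hex.2.1
  refine ⟨u, ⟨huhom, inferInstance, hu1, ?_, Presieve.singleton (𝟙 P.left),
    Scheme.Hom.singleton_mem_fppfPrecoverage _, fun S' f hf => ?_⟩, hu2⟩
  · have key : ∀ {T : Over S} (l : T ⟶ E ⊗ G), l ≫ (E ◁ u) ≫ μ[E] = (l ≫ fst E G) * ((l ≫ snd E G) ≫ u) := by
      intro T l
      rw [Hom.mul_def, ← lift_whiskerLeft_assoc, ← comp_lift, lift_fst_snd, Category.comp_id]
    have hw : fst E G ≫ pr = ((E ◁ u) ≫ μ[E]) ≫ pr := by
      have := key (𝟙 (E ⊗ G))
      rw [Category.id_comp, Category.id_comp, Category.id_comp] at this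
      rw [this, MonObj.mul_comp, Category.assoc _ u, hu1, MonObj.comp_one, _root_.mul_one]
    let l : ∀ (c : PullbackCone pr pr), c.pt ⟶ E ⊗ G := fun c =>
      lift c.fst (hpts c.pt c.fst c.snd c.condition).choose
    refine IsPullback.of_isLimit (c := PullbackCone.mk _ _ hw) (PullbackCone.IsLimit.mk _ l
      (fun c => lift_fst _ _) (fun c => ?_) fun c m hm1 hm2 => ?_)
    · rw [key, lift_fst, lift_snd]
      exact (hpts c.pt c.fst c.snd c.condition).choose_spec.1
    · refine CartesianMonoidalCategory.hom_ext _ _ (by rw [lift_fst]; exact hm1) ?_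
      rw [lift_snd]
      refine (hpts c.pt c.fst c.snd c.condition).choose_spec.2 _ ?_
      show _ * _ = _
      rw [← hm1, ← key]
      exact hm2
  · obtain ⟨⟩ := hf
    exact ⟨(pair (1 : P ⟶ G) (𝟙 P)).left, congrArg (fun r : P ⟶ P => r.left) (hp2 (1 : P ⟶ G) (𝟙 P))⟩

/-- The comparison map is a homomorphism. -/
theorem isMonHom_comp [GrpObj E]
    (hmul : ∀ (T : Over S) (x y : T ⟶ E), res (x * y) ≫ φ = (res x ≫ φ) * (res y ≫ φ)) :
    IsMonHom (M := Red.bc (S.fromSpecResidueField ξ) E) φ := by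
  refine TorsorSch25.isMonHom_of_points φ fun T a b => ?_
  have hμ : μ[Red.bc (S.fromSpecResidueField ξ) E] ≫ φ = (fst (Red.bc (S.fromSpecResidueField ξ) E) (Red.bc (S.fromSpecResidueField ξ) E) ≫ φ) * (snd (Red.bc (S.fromSpecResidueField ξ) E) (Red.bc (S.fromSpecResidueField ξ) E) ≫ φ) := by
    show (Functor.LaxMonoidal.μ (Over.pullback (S.fromSpecResidueField ξ)) E E ≫ res μ[E]) ≫ φ = _
    have h1 : μ[E] = fst E E * snd E E := by rw [Hom.mul_def, lift_fst_snd, Category.id_comp]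
    rw [Category.assoc, h1, hmul, MonObj.comp_mul, ← Category.assoc, ← Category.assoc, Functor.Monoidal.μ_fst,
      Functor.Monoidal.μ_snd]
  have h2 := congrArg (fun r => lift a b ≫ r) hμ
  simp only [MonObj.comp_mul, lift_fst_assoc, lift_snd_assoc] at h2
  rw [← h2, Hom.mul_def, Category.assoc]

end Model

variable (σ : Red.bc (S.fromSpecResidueField ξ) P ⟶ E') (hσ : σ ≫ v' = 𝟙 _)
  (hex : NonAbH1.IsExactSeq Scheme.fppfPrecoverage u' v')

/-- The comparison of the product with `E'` on the generic fibre. -/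
def genMap (σ : Red.bc (S.fromSpecResidueField ξ) P ⟶ E') (u' : Red.bc (S.fromSpecResidueField ξ) G ⟶ E') :
    Red.bc (S.fromSpecResidueField ξ) (G ⊗ P) ⟶ E' :=
  (res (snd G P) ≫ σ) * (res (fst G P) ≫ u')

include hσ hex in
theorem genMap_v : genMap σ u' ≫ v' = res (snd G P) := by
  haveI := hex.2.1
  rw [genMap, MonObj.mul_comp, Category.assoc, hσ, Category.comp_id, Category.assoc, hex.2.2.1, MonObj.comp_one,
    _root_.mul_one]

theorem res_genMap {T : Over S} (x : T ⟶ G ⊗ P) :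
    res x ≫ genMap σ u' = (res (x ≫ snd G P) ≫ σ) * (res (x ≫ fst G P) ≫ u') := by
  rw [genMap, MonObj.comp_mul, res_comp, res_comp, Category.assoc, Category.assoc]

include hσ hex in
theorem exists_inverse :
    ∃ ψ : E' ⟶ Red.bc (S.fromSpecResidueField ξ) (G ⊗ P), genMap σ u' ≫ ψ = 𝟙 _ ∧ ψ ≫ genMap σ u' = 𝟙 _ := by
  haveI := hex.1; haveI := hex.2.1
  let i := S.fromSpecResidueField ξ
  obtain ⟨g', hg', -⟩ := CentExt24.existsUnique_mul hex (v' ≫ σ) (𝟙 E')
    (by rw [Category.assoc, hσ, Category.comp_id, Category.id_comp])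
  let ψ : E' ⟶ Red.bc i (G ⊗ P) := lift g' v' ≫ Functor.LaxMonoidal.μ (Over.pullback i) G P
  have hψ1 : ψ ≫ res (fst G P) = g' := by
    show (lift g' v' ≫ _) ≫ (Over.pullback i).map (fst G P) = g'
    rw [Category.assoc, Functor.Monoidal.μ_fst, lift_fst]
  have hψ2 : ψ ≫ res (snd G P) = v' := by
    show (lift g' v' ≫ _) ≫ (Over.pullback i).map (snd G P) = v'
    rw [Category.assoc, Functor.Monoidal.μ_snd, lift_snd]
  have hφv := genMap_v σ hσ hex
  have hψφ : ψ ≫ genMap σ u' = 𝟙 E' := by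
    rw [genMap, MonObj.comp_mul, ← Category.assoc, hψ2, ← Category.assoc, hψ1, hg']
  refine ⟨ψ, ?_, hψφ⟩
  have h1 : (genMap σ u' ≫ ψ) ≫ res (snd G P) = res (snd G P) := by rw [Category.assoc, hψ2, hφv]
  have h2 : (genMap σ u' ≫ ψ) ≫ res (fst G P) = res (fst G P) := by
    rw [Category.assoc, hψ1]
    refine CentExt24.cancel_u hex (mul_left_cancel (a := res (snd G P) ≫ σ) ?_)
    have := congrArg (fun r => genMap σ u' ≫ r) hg'
    simp only [MonObj.comp_mul, Category.comp_id] at this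
    rw [← Category.assoc (genMap σ u') v', hφv, ← Category.assoc (genMap σ u') g'] at this
    exact this
  rw [← cancel_mono (Functor.OplaxMonoidal.δ (Over.pullback i) G P)]
  apply CartesianMonoidalCategory.hom_ext
  · rw [Category.assoc, Functor.OplaxMonoidal.δ_fst, Category.id_comp, Functor.OplaxMonoidal.δ_fst]
    exact h2
  · rw [Category.assoc, Functor.OplaxMonoidal.δ_snd, Category.id_comp, Functor.OplaxMonoidal.δ_snd]
    exact h1

include hS hξ eG hex hσ in
/-- The extension over the whole base. -/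
theorem exists_extension [Smooth P.hom] :
    ∃ (E : Over S) (_ : GrpObj E) (u : G ⟶ E) (v : E ⟶ P) (φ : Red.bc (S.fromSpecResidueField ξ) E ≅ E'),
      NonAbH1.IsExactSeq Scheme.fppfPrecoverage u v ∧ IsMonHom φ.hom ∧
        (Over.pullback (S.fromSpecResidueField ξ)).map u ≫ φ.hom = u' ∧
        φ.hom ≫ v' = (Over.pullback (S.fromSpecResidueField ξ)).map v := by
  haveI := hex.2.1
  haveI : IsIso eG.hom.left := (inferInstance : IsIso ((Over.forget _).map eG.hom))
  haveI : Etale G.hom := by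
    rw [← Over.w eG.hom]
    exact (MorphismProperty.cancel_left_of_respectsIso @Etale _ _).2 etale_const
  haveI : Smooth (G ⊗ P).hom := inferInstanceAs (Smooth (pullback.fst G.hom P.hom ≫ G.hom))
  obtain ⟨ψ, hψ1, hψ2⟩ := exists_inverse σ hσ hex
  have hφv := genMap_v σ hσ hex
  have hext : ∀ (T : Over S), Smooth T.hom → ∀ x y : T ⟶ G ⊗ P, x ≫ snd G P = y ≫ snd G P →
      res x ≫ genMap σ u' = res y ≫ genMap σ u' → x = y := by
    intro T hT x y h1 h2
    haveI := hT
    rw [res_genMap, res_genMap, h1] at h2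
    exact CartesianMonoidalCategory.hom_ext _ _ (eq_of_map_eq hξ eG (CentExt24.cancel_u hex (mul_left_cancel h2))) h1
  have hlift : ∀ (T : Over S), Smooth T.hom → ∀ (p : T ⟶ P) (e : Red.bc (S.fromSpecResidueField ξ) T ⟶ E'),
      e ≫ v' = res p → ∃ x : T ⟶ G ⊗ P, x ≫ snd G P = p ∧ res x ≫ genMap σ u' = e := by
    intro T hT p e he
    haveI := hT
    obtain ⟨g, hg, -⟩ := CentExt24.existsUnique_mul hex (res p ≫ σ) e
      (by rw [Category.assoc, hσ, Category.comp_id, he])
    obtain ⟨K, hK⟩ := exists_map_eq hS hξ eG g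
    refine ⟨lift K p, lift_snd _ _, ?_⟩
    rw [res_genMap, lift_snd, lift_fst]
    show _ * ((Over.pullback (S.fromSpecResidueField ξ)).map K ≫ u') = _
    rw [hK]; exact hg
  obtain ⟨grp, hpr, hmul⟩ := exists_grpObj (snd G P) (genMap σ u') hφv hext hlift
  obtain ⟨u, hu, hu2⟩ := @exists_exact S _ hS ξ hξ Z _ G P _ _ eG E' _ u' v' (G ⊗ P) _ (snd G P) (genMap σ u') _
    hφv hext hlift _ grp hpr hmul hex (fst G P) (fun a b => lift a b) (fun a b => lift_fst a b)
    (fun a b => lift_snd a b) (fun x y h1 h2 => CartesianMonoidalCategory.hom_ext _ _ h1 h2)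
  exact ⟨G ⊗ P, grp, u, snd G P, ⟨genMap σ u', ψ, hψ1, hψ2⟩, hu,
    @isMonHom_comp S _ ξ E' _ (G ⊗ P) _ (genMap σ u') grp hmul, hu2, hφv⟩

end Groth.Agent.ConstExt19
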