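import Groth.Agent.Lib.ConstExt19.Basic
import Groth.Agent.Lib.SectionCompFlat4
import Groth.Agent.Lib.MTRigid29.TwConstUnibranch
import Groth.Prelude.Def_MoreMor

/-!
# Torsors under constant groups and connected fibres
-/

set_option autoImplicit false
set_option linter.style.haveILetI false
set_option linter.unusedSectionVars false
set_option backward.isDefEq.respectTransparency false
set_option backward.isDefEq.respectTransparency.types false
set_option maxSynthPendingDepth 3

universe u

open CategoryTheory CategoryTheory.Limits MonoidalCategory CartesianMonoidalCategory MonObj AlgebraicGeometry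

noncomputable section

namespace Groth.Agent.ConstExt19.Torsor

open MTRigid29

variable {P : Scheme.{u}} {G : Over P} [GrpObj G] {Z : Type u} [Group Z]
  (eG : G ≅ TwC.const P Z) (E : NonAbH1.TorsorSch G Scheme.fppfPrecoverage)

/-- The map `(g, x) ↦ (gx, x)`. -/
abbrev shear : G ⊗ E.X ⟶ E.X ⊗ E.X := lift E.act.act (snd G E.X)

include eG in
/-- Properties of constant schemes descend to torsors. -/
theorem prop_hom (Q : MorphismProperty Scheme.{u}) [Q.IsStableUnderBaseChange] [IsZariskiLocalAtTarget Q]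
    [Q.DescendsAlong (@Surjective ⊓ @Flat ⊓ @QuasiCompact)] (hQ : Q (TwC.const P Z).hom) : Q E.X.hom := by
  classical
  obtain ⟨hpt, R, hR, hs⟩ := E.isTorsor
  haveI : IsIso eG.hom.left := (inferInstance : IsIso ((Over.forget _).map eG.hom))
  have hGQ : Q G.hom := by
    rw [← Over.w eG.hom]
    exact (Q.cancel_left_of_respectsIso _ _).2 hQ
  haveI : IsIso (shear E) := hpt
  haveI : IsIso (shear E).left := (inferInstance : IsIso ((Over.forget _).map (shear E)))
  have hsnd : Q (snd E.X E.X).left := by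
    refine (Q.cancel_left_of_respectsIso (shear E).left _).1 ?_
    rw [← Over.comp_left, lift_snd]
    exact Q.pullback_snd G.hom E.X.hom hGQ
  have hR' := hR
  have hsurj : ∀ p : P, ∃ (W : Scheme.{u}) (f : W ⟶ P), R f ∧ p ∈ Set.range f := fun p => by
    obtain ⟨Y, g, hg, hp⟩ := hR.1 p
    obtain ⟨hg'⟩ := hg
    exact ⟨_, _, hg', hp⟩
  choose W f hRf hp using hsurj
  have hfam : Presieve.ofArrows W f ∈ Scheme.fpqcPrecoverage P := by
    refine Scheme.fppfPrecoverage_le_fpqcPrecoverage _ ((Scheme.ofArrows_mem_precoverage_iff _).2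
      ⟨fun p => ⟨p, hp p⟩, fun p => ?_⟩)
    exact hR'.2 (hRf p)
  refine prop_of_fpqc_cover f hfam Q _ fun p => ?_
  obtain ⟨x, hx⟩ := hs (f p) (hRf p)
  have hsq : IsPullback (fst E.X E.X).left (snd E.X E.X).left E.X.hom E.X.hom :=
    IsPullback.of_hasPullback E.X.hom E.X.hom
  have h1 := (IsPullback.of_hasPullback (snd E.X E.X).left x).paste_horiz hsq
  rw [hx] at h1
  rw [← h1.isoPullback_inv_snd]
  exact (Q.cancel_left_of_respectsIso _ _).2 (Q.pullback_snd _ _ hsnd)

include eG in
/-- A torsor under a constant group is étale. -/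
theorem etale_hom : Etale E.X.hom := prop_hom eG E @Etale etale_const

include eG in
/-- A torsor under a constant group is separated. -/
theorem isSeparated_hom : IsSeparated E.X.hom :=
  haveI : MorphismProperty.DescendsAlong @IsSeparated (@Surjective ⊓ @Flat ⊓ @QuasiCompact) :=
    FpqcDesc.descendsAlong_isSeparated
  prop_hom eG E @IsSeparated isSeparated_const

/-- The point of index `z`. -/
abbrev gpt (z : Z) : 𝟙_ (Over P) ⟶ G := TwC.pt P Z z ≫ eG.inv

/-- The translation by `z`. -/
def transl (z : Z) : E.X ⟶ E.X := lift (toUnit E.X ≫ gpt eG z) (𝟙 E.X) ≫ E.act.act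

theorem comp_transl {T : Over P} (x : T ⟶ E.X) (z : Z) :
    x ≫ transl eG E z = lift (toUnit T ≫ gpt eG z) x ≫ E.act.act := by
  rw [transl, ← Category.assoc, comp_lift, Category.comp_id, ← Category.assoc, toUnit_unique (x ≫ toUnit E.X)]

/-- Two points differ by a unique point of the constant group. -/
theorem existsUnique_translate {T : Over P} (x y : T ⟶ E.X) :
    ∃! k : T ⟶ TwC.const P Z, lift (k ≫ eG.inv) x ≫ E.act.act = y := by
  haveI : IsIso (shear E) := E.isTorsor.1
  let q : T ⟶ G ⊗ E.X := lift y x ≫ inv (shear E)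
  have hq : q ≫ shear E = lift y x := by rw [Category.assoc, IsIso.inv_hom_id, Category.comp_id]
  have hq1 : q ≫ E.act.act = y := by
    have := congrArg (fun r => r ≫ fst E.X E.X) hq
    simpa only [Category.assoc, lift_fst] using this
  have hq2 : q ≫ snd G E.X = x := by
    have := congrArg (fun r => r ≫ snd E.X E.X) hq
    simpa only [Category.assoc, lift_snd] using this
  refine ⟨(q ≫ fst G E.X) ≫ eG.hom, ?_, fun k hk => ?_⟩
  · show lift (((q ≫ fst G E.X) ≫ eG.hom) ≫ eG.inv) x ≫ E.act.act = y
    rw [Category.assoc (q ≫ fst G E.X), eG.hom_inv_id, Category.comp_id, ← hq2, lift_comp_fst_snd]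
    exact hq1
  · have hk' : lift (k ≫ eG.inv) x ≫ shear E = lift y x := by rw [comp_lift, hk, lift_snd]
    have : q = lift (k ≫ eG.inv) x := (cancel_mono (shear E)).1 (hq.trans hk'.symm)
    show k = (q ≫ fst G E.X) ≫ eG.hom
    rw [this, lift_fst, Category.assoc, eG.inv_hom_id, Category.comp_id]

theorem comp_lift_act {T T' : Over P} (j : T' ⟶ T) (k : T ⟶ TwC.const P Z) (x : T ⟶ E.X) :
    j ≫ lift (k ≫ eG.inv) x ≫ E.act.act = lift ((j ≫ k) ≫ eG.inv) (j ≫ x) ≫ E.act.act := by
  rw [← Category.assoc, comp_lift, Category.assoc]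

theorem lift_pt_act {T : Over P} (x : T ⟶ E.X) (z : Z) :
    lift ((toUnit T ≫ TwC.pt P Z z) ≫ eG.inv) x ≫ E.act.act = x ≫ transl eG E z := by
  rw [comp_transl, Category.assoc]

/-- The translating index near a point. -/
theorem translate_eq {T : Over P} (x y : T ⟶ E.X) (k : T ⟶ TwC.const P Z)
    (hk : lift (k ≫ eG.inv) x ≫ E.act.act = y) (z : Z) :
    openIncl (piece k z) ≫ y = (openIncl (piece k z) ≫ x) ≫ transl eG E z := by
  rw [← hk, comp_lift_act, openIncl_comp k z _ le_rfl, lift_pt_act]

variable (hG : TwC.IsConstGrp Z G eG)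

include hG in
theorem gpt_one : gpt eG (1 : Z) = 1 := by
  have h := hG 1 1
  rw [_root_.mul_one] at h
  exact mul_left_cancel (h.trans (_root_.mul_one _).symm)

theorem lift_mul_act {T : Over P} (g h : T ⟶ G) (x : T ⟶ E.X) :
    lift (g * h) x ≫ E.act.act = lift g (lift h x ≫ E.act.act) ≫ E.act.act := by
  have := congrArg (fun r => lift (lift g h) x ≫ r) E.act.mul_act
  simpa [Hom.mul_def] using this

include hG in
theorem transl_transl (z w : Z) : transl eG E z ≫ transl eG E w = transl eG E (w * z) := by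
  rw [comp_transl, transl, ← lift_mul_act, ← MonObj.comp_mul]
  show lift (toUnit _ ≫ (gpt eG w * gpt eG z)) _ ≫ _ = _
  rw [show gpt eG w * gpt eG z = gpt eG (w * z) from hG w z]
  rfl

include hG in
theorem transl_one : transl eG E (1 : Z) = 𝟙 E.X := by
  rw [transl, gpt_one eG hG, MonObj.comp_one]
  have := congrArg (fun r => lift (toUnit E.X) (𝟙 E.X) ≫ r) E.act.one_act
  simp only [lift_whiskerRight_assoc] at this
  rw [Hom.one_def]
  simpa using this

include hG in
theorem translate_refl {T : Over P} (x : T ⟶ E.X) :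
    lift ((toUnit T ≫ TwC.pt P Z 1) ≫ eG.inv) x ≫ E.act.act = x := by
  rw [lift_pt_act, transl_one eG E hG, Category.comp_id]

/-- The union of the components along a section of a smooth quasi-separated morphism is open. -/
theorem isOpen_sectionComponents {X Y : Scheme.{u}} (f : X ⟶ Y) [Smooth f] [QuasiSeparated f] {g : Y ⟶ X}
    (hg : g ≫ f = 𝟙 Y) : IsOpen (MoreMor.sectionComponents f g) := by
  rw [isOpen_iff_mem_nhds]
  intro x hx
  obtain ⟨V, hV, hxV, -⟩ := exists_isAffineOpen_mem_and_subset (X := Y) (x := f x) (U := ⊤) trivial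
  let j := hV.fromSpec
  let p := hV.primeIdealOf ⟨f x, hxV⟩
  let g' := pullback.fst f j
  let t : Spec Γ(Y, V) ⟶ pullback f j :=
    pullback.lift (j ≫ g) (𝟙 _) (by rw [Category.assoc, hg, Category.comp_id, Category.id_comp])
  haveI : Smooth (pullback.snd f j) := MorphismProperty.pullback_snd _ _ inferInstance
  haveI : QuasiSeparated (pullback.snd f j) := MorphismProperty.pullback_snd _ _ inferInstance
  haveI : QuasiSeparatedSpace ↥(pullback f j) := quasiSeparatedSpace_of_quasiSeparated (pullback.snd f j)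
  have ht : t ≫ pullback.snd f j = 𝟙 _ := pullback.lift_snd _ _ _
  have hE := SectionCompConn4.sectionComponents_baseChange hg (IsPullback.of_hasPullback f j) ht (pullback.lift_fst _ _ _)
  have h := SectionCompFlat4.isOpen_of_smooth_affine (pullback.snd f j) ht
  rw [hE] at h
  obtain ⟨x', hx', -⟩ := Scheme.Pullback.exists_preimage_pullback (f := f) (g := j) x p (hV.fromSpec_primeIdealOf ⟨f x, hxV⟩).symm
  have h2 := g'.isOpenEmbedding.isOpenMap.image_mem_nhds (h.mem_nhds (show g' x' ∈ MoreMor.sectionComponents f g by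
    rw [show g' x' = x from hx']; exact hx))
  rw [show g' x' = x from hx'] at h2
  exact Filter.mem_of_superset h2 (Set.image_preimage_subset _ _)

section Fibres

variable {S : Scheme.{u}} (p : P ⟶ S) [Smooth p] [QuasiSeparated p] [GeometricallyConnected p] (e : S ⟶ P) (he : e ≫ p = 𝟙 S)
  (e' : S ⟶ E.X.left) (he' : e' ≫ E.X.hom = e)

/-- The components of the fibres along the given section. -/
def comps : Set E.X.left := MoreMor.sectionComponents (E.X.hom ≫ p) e'

include eG he he' in
theorem isOpen_comps : IsOpen (comps E p e') := by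
  haveI := etale_hom eG E
  haveI := isSeparated_hom eG E
  exact isOpen_sectionComponents _ (by rw [← Category.assoc, he', he])

theorem mem_comps_of_preconnected {A : Set E.X.left} (hA : _root_.IsPreconnected A) (s : S) (h1 : e' s ∈ A)
    (h2 : ∀ a ∈ A, (E.X.hom ≫ p) a = s) {a : E.X.left} (ha : a ∈ A) : a ∈ comps E p e' := by
  have := hA.subset_connectedComponentIn h1 (show A ⊆ (E.X.hom ≫ p) ⁻¹' {s} from h2)
  show a ∈ connectedComponentIn ((E.X.hom ≫ p) ⁻¹' {(E.X.hom ≫ p) a}) (e' ((E.X.hom ≫ p) a))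
  rw [h2 a ha]
  exact this ha

include hG he he' in
/-- On a fibre with a section the component along the given section is the image of a normalised section. -/
theorem exists_fibre_section (s : S) (hs : NonAbH1.HasSectionOver E.X (pullback.fst p (S.fromSpecResidueField s))) :
    ∃ τ : Over.mk (pullback.fst p (S.fromSpecResidueField s)) ⟶ E.X,
      (∀ r, τ.left r ∈ comps E p e') ∧
      ∀ (T : Over P) (a : T ⟶ E.X) (π : T ⟶ Over.mk (pullback.fst p (S.fromSpecResidueField s))),
        (∀ t, a.left t ∈ comps E p e') → a = π ≫ τ := by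
  classical
  obtain ⟨σ₀, hσ₀⟩ := hs
  let ιs := S.fromSpecResidueField s
  let Fs : Over P := Over.mk (pullback.fst p ιs)
  let σ : Fs ⟶ E.X := Over.homMk σ₀ hσ₀
  let T₀ : Over P := Over.mk (ιs ≫ e)
  let es : T₀ ⟶ Fs := Over.homMk (pullback.lift (ιs ≫ e) (𝟙 _) (by rw [Category.assoc, he]; simp))
    (pullback.lift_fst _ _ _)
  let a₀ : T₀ ⟶ E.X := Over.homMk (ιs ≫ e') (by rw [Category.assoc, he']; rfl)
  let pt : T₀.left := IsLocalRing.closedPoint (S.residueField s)
  obtain ⟨k₀, hk₀, -⟩ := existsUnique_translate eG E (es ≫ σ) a₀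
  obtain ⟨z, hz⟩ := mem_piece_self k₀ pt
  have hk₀z : k₀ = toUnit T₀ ≫ TwC.pt P Z z := eq_toUnit_pt k₀ z fun w => by
    rwa [Subsingleton.elim (α := PrimeSpectrum (S.residueField s)) w pt]
  let τ : Fs ⟶ E.X := σ ≫ transl eG E z
  have hτ : es ≫ τ = a₀ := by
    rw [← Category.assoc, ← lift_pt_act, ← hk₀z]; exact hk₀
  have hfs : ∀ r : Fs.left, p (Fs.hom r) = s := fun r => by
    rw [← Scheme.Hom.comp_apply, show Fs.hom ≫ p = pullback.snd p ιs ≫ ιs from pullback.condition,
      Scheme.Hom.comp_apply]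
    exact S.fromSpecResidueField_apply s _
  haveI : ConnectedSpace ↥Fs.left := GeometricallyConnected.connectedSpace_of_subsingleton (f := pullback.snd p ιs)
  have hτC : ∀ r, τ.left r ∈ comps E p e' := fun r => by
    refine mem_comps_of_preconnected E p e' (A := Set.range τ.left) (isPreconnected_range τ.left.continuous) s
      ⟨es.left pt, ?_⟩ ?_ ⟨r, rfl⟩
    · show (es ≫ τ).left pt = e' s
      rw [hτ]
      show e' (ιs pt) = e' s
      rw [S.fromSpecResidueField_apply]
    · rintro _ ⟨w, rfl⟩
      show p ((τ.left ≫ E.X.hom) w) = s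
      rw [Over.w τ]; exact hfs w
  refine ⟨τ, hτC, fun T a π ha => ?_⟩
  -- the comparison on the whole fibre
  let q := E.X.hom ≫ p
  let F : Over P := Over.mk (q.fiberι s ≫ E.X.hom)
  let aF : F ⟶ E.X := Over.homMk (q.fiberι s) rfl
  let πF : F ⟶ Fs := Over.homMk (pullback.lift (q.fiberι s ≫ E.X.hom) (q.fiberToSpecResidueField s)
    (by rw [Category.assoc]; exact pullback.condition)) (pullback.lift_fst _ _ _)
  obtain ⟨k, hk, -⟩ := existsUnique_translate eG E (πF ≫ τ) aF
  let c : T₀ ⟶ F := Over.homMk (pullback.lift (ιs ≫ e') (𝟙 _) (by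
      rw [Category.assoc, show e' ≫ q = 𝟙 S by rw [← Category.assoc, he', he]]; simp [ιs])) (by
    show pullback.lift _ _ _ ≫ pullback.fst _ _ ≫ E.X.hom = _
    rw [pullback.lift_fst_assoc, Category.assoc, he']; rfl)
  have hca : c ≫ aF = a₀ := Over.OverMorphism.ext (pullback.lift_fst _ _ _)
  have hcπ : c ≫ πF = es := by
    refine Over.OverMorphism.ext (pullback.hom_ext ?_ ?_)
    · show (c.left ≫ πF.left) ≫ pullback.fst p ιs = es.left ≫ pullback.fst p ιs
      rw [show es.left ≫ pullback.fst p ιs = ιs ≫ e from pullback.lift_fst _ _ _, Category.assoc,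
        show πF.left ≫ pullback.fst p ιs = q.fiberι s ≫ E.X.hom from pullback.lift_fst _ _ _, ← Category.assoc,
        show c.left ≫ q.fiberι s = ιs ≫ e' from pullback.lift_fst _ _ _, Category.assoc, he']
    · show (c.left ≫ πF.left) ≫ pullback.snd p ιs = es.left ≫ pullback.snd p ιs
      rw [show es.left ≫ pullback.snd p ιs = 𝟙 _ from pullback.lift_snd _ _ _, Category.assoc,
        show πF.left ≫ pullback.snd p ιs = q.fiberToSpecResidueField s from pullback.lift_snd _ _ _,
        show c.left ≫ q.fiberToSpecResidueField s = 𝟙 _ from pullback.lift_snd _ _ _]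
  have hck : c ≫ k = toUnit T₀ ≫ TwC.pt P Z 1 := by
    refine (existsUnique_translate eG E a₀ a₀).unique ?_ (translate_refl eG E hG a₀)
    have := congrArg (fun r => c ≫ r) hk
    simp only [comp_lift_act] at this
    rwa [← Category.assoc c πF, hcπ, hτ, hca] at this
  have hc1 : c.left pt ∈ piece k 1 := by
    have := piece_toUnit_pt (S := P) (T := T₀) (1 : Z) pt
    rwa [← hck, piece_comp] at this
  have hD : connectedComponent (c.left pt) ⊆ (piece k 1 : Set F.left) := by
    have hco : IsClopen (piece k 1 : Set F.left) := by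
      refine ⟨⟨isOpen_iff_forall_mem_open.2 fun w hw => ?_⟩, (piece k 1).2⟩
      obtain ⟨b, hb⟩ := mem_piece_self k w
      exact ⟨piece k b, fun v hv hv1 => hw (eq_of_mem_piece k hv1 hv ▸ hb), (piece k b).2, hb⟩
    exact hco.connectedComponent_subset hc1
  have hw : ∀ t, (a.left ≫ q) t = s := fun t => by
    show p ((a.left ≫ E.X.hom) t) = s
    rw [Over.w a, ← Over.w π, Scheme.Hom.comp_apply]; exact hfs _
  let l : T ⟶ F := Over.homMk (pullback.lift a.left (π.left ≫ pullback.snd p ιs) (by
      rw [← Category.assoc, Over.w a, ← Over.w π, Category.assoc, Category.assoc]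
      exact congrArg (fun r => π.left ≫ r) pullback.condition)) (by
    show pullback.lift _ _ _ ≫ pullback.fst _ _ ≫ E.X.hom = _
    rw [pullback.lift_fst_assoc, Over.w a])
  have hla : l ≫ aF = a := Over.OverMorphism.ext (pullback.lift_fst _ _ _)
  have hlπ : l ≫ πF = π := by
    refine Over.OverMorphism.ext (pullback.hom_ext ?_ ?_)
    · show (l.left ≫ πF.left) ≫ pullback.fst p ιs = π.left ≫ pullback.fst p ιs
      rw [Category.assoc, show πF.left ≫ pullback.fst p ιs = q.fiberι s ≫ E.X.hom from pullback.lift_fst _ _ _,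
        ← Category.assoc, show l.left ≫ q.fiberι s = a.left from pullback.lift_fst _ _ _, Over.w a]
      exact (Over.w π).symm
    · show (l.left ≫ πF.left) ≫ pullback.snd p ιs = π.left ≫ pullback.snd p ιs
      rw [Category.assoc, show πF.left ≫ pullback.snd p ιs = q.fiberToSpecResidueField s from pullback.lift_snd _ _ _]
      exact pullback.lift_snd _ _ _
  have hl1 : ∀ t, l.left t ∈ piece k 1 := fun t => hD (by
    have h1 := ha t
    have e1 : q.fiberι s (l.left t) = a.left t := congrArg (fun r : T ⟶ E.X => r.left t) hla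
    have e2 : q.fiberι s (c.left pt) = e' s := by
      refine (congrArg (fun r : T₀ ⟶ E.X => r.left pt) hca).trans ?_
      show e' (ιs pt) = e' s
      rw [S.fromSpecResidueField_apply]
    have e3 : q.fiberι s '' connectedComponent (c.left pt) = connectedComponentIn (q ⁻¹' {s}) (e' s) := by
      rw [← connectedComponentIn_univ, SectionCompOpen4.image_connectedComponentIn (q.fiberι s).isEmbedding (Set.mem_univ _),
        Set.image_univ, Scheme.Hom.range_fiberι, e2]
    change a.left t ∈ connectedComponentIn (q ⁻¹' {q (a.left t)}) (e' (q (a.left t))) at h1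
    rw [show q (a.left t) = s from hw t, ← e1, ← e3] at h1
    obtain ⟨w, hw', hww⟩ := h1
    exact (q.fiberι s).isEmbedding.injective hww ▸ hw')
  have hlk : l ≫ k = toUnit T ≫ TwC.pt P Z 1 := eq_toUnit_pt _ 1 hl1
  have := congrArg (fun r => l ≫ r) hk
  simp only [comp_lift_act] at this
  rw [hlk, hla, ← Category.assoc l πF, hlπ, translate_refl eG E hG] at this
  exact this.symm

include hG he he' in
/-- Fibrewise trivial torsors are trivial, and the normalised section is unique. -/
theorem existsUnique_section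
    (hs : ∀ s : S, NonAbH1.HasSectionOver E.X (pullback.fst p (S.fromSpecResidueField s))) :
    ∃! g : P ⟶ E.X.left, g ≫ E.X.hom = 𝟙 P ∧ e ≫ g = e' := by
  classical
  haveI := etale_hom eG E
  let C : E.X.left.Opens := ⟨_, isOpen_comps eG E p e he e' he'⟩
  let h₀ : C.toScheme ⟶ P := C.ι ≫ E.X.hom
  haveI : Surjective h₀ := ⟨fun r => by
    obtain ⟨τ, hτ, -⟩ := exists_fibre_section eG E hG p e he e' he' (p r) (hs _)
    obtain ⟨w, hw, -⟩ := Scheme.Pullback.exists_preimage_pullback (f := p) (g := S.fromSpecResidueField (p r)) r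
      (IsLocalRing.closedPoint (S.residueField (p r))) (S.fromSpecResidueField_apply _ _).symm
    refine ⟨⟨τ.left w, hτ w⟩, ?_⟩
    show (τ.left ≫ E.X.hom) w = r
    rw [Over.w τ]; exact hw⟩
  haveI hd : Surjective (pullback.diagonal h₀) := ⟨fun q => by
    let m := pullback.fst h₀ h₀ ≫ h₀ ≫ p
    let s := m q
    obtain ⟨τ, -, hu⟩ := exists_fibre_section eG E hG p e he e' he' s (hs s)
    let ιs := S.fromSpecResidueField s
    obtain ⟨w, hw, -⟩ := Scheme.Pullback.exists_preimage_pullback (f := m) (g := ιs) q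
      (IsLocalRing.closedPoint (S.residueField s)) (S.fromSpecResidueField_apply _ _).symm
    let T : Over P := Over.mk (pullback.fst m ιs ≫ pullback.fst h₀ h₀ ≫ h₀)
    let π : T ⟶ Over.mk (pullback.fst p ιs) := Over.homMk (pullback.lift T.hom (pullback.snd m ιs) (by
      show (pullback.fst m ιs ≫ pullback.fst h₀ h₀ ≫ h₀) ≫ p = _
      rw [← pullback.condition]; simp only [m, Category.assoc])) (pullback.lift_fst _ _ _)
    let a : T ⟶ E.X := Over.homMk (pullback.fst m ιs ≫ pullback.fst h₀ h₀ ≫ C.ι) (by simp [T, h₀])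
    let b : T ⟶ E.X := Over.homMk (pullback.fst m ιs ≫ pullback.snd h₀ h₀ ≫ C.ι) (by
      show _ = pullback.fst m ιs ≫ pullback.fst h₀ h₀ ≫ h₀
      rw [pullback.condition]
      simp only [h₀, Category.assoc])
    have hab : a.left = b.left := by
      rw [hu T a π fun t => ((pullback.fst m ιs ≫ pullback.fst h₀ h₀) t).2,
        hu T b π fun t => ((pullback.fst m ιs ≫ pullback.snd h₀ h₀) t).2]
    have h1 : pullback.fst m ιs ≫ pullback.fst h₀ h₀ = pullback.fst m ιs ≫ pullback.snd h₀ h₀ := by
      rw [← cancel_mono C.ι, Category.assoc, Category.assoc]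
      exact hab
    refine ⟨(pullback.fst m ιs ≫ pullback.fst h₀ h₀) w, ?_⟩
    have h2 : (pullback.fst m ιs ≫ pullback.fst h₀ h₀) ≫ pullback.diagonal h₀ = pullback.fst m ιs := by
      apply pullback.hom_ext
      · simp
      · rw [Category.assoc, Category.assoc, pullback.diagonal_snd, Category.comp_id]; exact h1
    rw [← Scheme.Hom.comp_apply, h2, hw]⟩
  haveI : Etale h₀ := MorphismProperty.comp_mem _ _ _ inferInstance ‹Etale E.X.hom›
  haveI : IsIso (pullback.diagonal h₀) :=
    (isIso_iff_isOpenImmersion_and_surjective _).2 ⟨inferInstance, hd⟩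
  haveI : Mono h₀ := (pullback.isIso_diagonal_iff h₀).1 inferInstance
  haveI : IsOpenImmersion h₀ := IsOpenImmersion.of_flat_of_mono h₀
  haveI : IsIso h₀ := (isIso_iff_isOpenImmersion_and_surjective _).2 ⟨inferInstance, inferInstance⟩
  have heC : ∀ s : S, e' s ∈ C := fun s => by
    refine mem_comps_of_preconnected E p e' (A := {e' s}) isPreconnected_singleton s rfl ?_ rfl
    rintro _ rfl
    show (e' ≫ E.X.hom ≫ p) s = s
    rw [← Category.assoc, he', he]; rfl
  let e₀ : S ⟶ C.toScheme := IsOpenImmersion.lift C.ι e' (by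
    rintro _ ⟨s, rfl⟩; rw [Scheme.Opens.range_ι]; exact heC s)
  have he₀ : e₀ ≫ C.ι = e' := IsOpenImmersion.lift_fac _ _ _
  refine ⟨inv h₀ ≫ C.ι, ⟨by rw [Category.assoc]; exact IsIso.inv_hom_id h₀, ?_⟩, fun g hg => ?_⟩
  · have : e₀ = e ≫ inv h₀ := by
      rw [IsIso.eq_comp_inv, ← he', ← he₀, Category.assoc]
    rw [← Category.assoc, ← this, he₀]
  · have hgC : ∀ r, g r ∈ C := fun r => by
      refine mem_comps_of_preconnected E p e' (A := g '' (p ⁻¹' {p r}))
        ((p.isConnected_preimage_singleton (p r)).isPreconnected.image _ g.continuous.continuousOn) (p r)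
        ⟨e (p r), ?_, ?_⟩ ?_ ⟨r, rfl, rfl⟩
      · show (e ≫ p) (p r) = p r
        rw [he]; rfl
      · rw [← Scheme.Hom.comp_apply, hg.2]
      · rintro _ ⟨w, hw, rfl⟩
        show p ((g ≫ E.X.hom) w) = p r
        rw [hg.1]; exact hw
    let g₀ : P ⟶ C.toScheme := IsOpenImmersion.lift C.ι g (by
      rintro _ ⟨r, rfl⟩; rw [Scheme.Opens.range_ι]; exact hgC r)
    have hg₀ : g₀ ≫ C.ι = g := IsOpenImmersion.lift_fac _ _ _
    have : g₀ = inv h₀ := IsIso.eq_inv_of_inv_hom_id (by rw [← Category.assoc, hg₀]; exact hg.1)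
    rw [← this, hg₀]

end Fibres

end Groth.Agent.ConstExt19.Torsor
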