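import Groth.Agent.Lib.ConstExt19.Torsor
import Groth.Agent.Lib.MTRigid29.TwConstUnibranch
import Groth.Agent.Lib.RelFrobFlat12.Basic
import Groth.Agent.S4936

/-!
# Torsors under torsion-free constant groups over geometrically unibranch bases
-/

set_option autoImplicit false
set_option linter.style.haveILetI false
set_option linter.unusedSectionVars false
set_option backward.isDefEq.respectTransparency false
set_option backward.isDefEq.respectTransparency.types false
set_option maxSynthPendingDepth 3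

universe u

open CategoryTheory CategoryTheory.Limits MonoidalCategory CartesianMonoidalCategory MonObj AlgebraicGeometry
open Groth.Agent.EtHull15

noncomputable section

namespace Groth.Agent.ConstExt19

open MTRigid29

variable {S P : Scheme.{u}} (f : P ⟶ S) [Smooth f]

include f in
/-- Smooth schemes over geometrically unibranch bases are geometrically unibranch. -/
theorem isGeomUnibranch_of_smooth (hS : ∀ s : S, CAlg2.IsGeomUnibranch (S.presheaf.stalk s)) (x : P) :
    CAlg2.IsGeomUnibranch (P.presheaf.stalk x) := by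
  obtain ⟨U, d, g, hxU, hg, -⟩ := RelFrobFlat12.exists_etale_affineSpace f x
  haveI := hg
  let x' : U.toScheme := ⟨x, hxU⟩
  have h1 := S4936.result (Y := S) d (g x') (hS _)
  have h2 := (Branch14.numGeomBranches_eq_one_iff _).2 h1
  refine (Branch14.numGeomBranches_eq_one_iff _).1 ?_
  exact ((Branch14.numGeomBranchesAt_of_etale U.ι x').symm.trans
    (Branch14.numGeomBranchesAt_of_etale g x')).trans h2

/-- Flat schemes locally of finite type over an irreducible base have locally finitely many maximal points. -/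
theorem locFinGen_of_flat [IrreducibleSpace S] {Z : Scheme.{u}} (h : Z ⟶ S) [Flat h] [LocallyOfFiniteType h] :
    LocFinGen Z := by
  intro x
  obtain ⟨W, hW, hxW, -⟩ := exists_isAffineOpen_mem_and_subset (X := S) (x := h x) (U := ⊤) trivial
  obtain ⟨V, hV, hxV, hVW⟩ := exists_isAffineOpen_mem_and_subset (X := Z) (x := x) (U := h ⁻¹ᵁ W) hxW
  haveI : IsAffine V.toScheme := hV
  haveI : IsAffine W.toScheme := hW
  let k : V.toScheme ⟶ W.toScheme := h.resLE W V hVW
  haveI : LocallyOfFiniteType (k ≫ W.ι) := by rw [Scheme.Hom.resLE_comp_ι]; infer_instance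
  haveI : LocallyOfFiniteType k := locallyOfFiniteType_of_comp k W.ι
  haveI : QuasiCompact k := inferInstance
  have hηW : genericPoint S ∈ W := (genericPoint_specializes (h x)).mem_open W.2 hxW
  let η₀ : W.toScheme := ⟨genericPoint S, hηW⟩
  haveI : LocallyOfFiniteType (k.fiberToSpecResidueField η₀) := MorphismProperty.pullback_snd _ _ inferInstance
  haveI : QuasiCompact (k.fiberToSpecResidueField η₀) := MorphismProperty.pullback_snd _ _ inferInstance
  haveI : IsLocallyNoetherian (k.fiber η₀) := LocallyOfFiniteType.isLocallyNoetherian (k.fiberToSpecResidueField η₀)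
  haveI : CompactSpace (k.fiber η₀) := QuasiCompact.compactSpace_of_compactSpace (k.fiberToSpecResidueField η₀)
  haveI : IsNoetherian (k.fiber η₀) := ⟨⟩
  refine ⟨V, hxV, ((finite_isGen (T := k.fiber η₀)).image (fun q => V.ι (k.fiberι η₀ q))).subset ?_⟩
  rintro l ⟨hlV, hl⟩
  have hkl : k ⟨l, hlV⟩ = η₀ := W.ι.isOpenEmbedding.injective (by
    show (k ≫ W.ι) ⟨l, hlV⟩ = genericPoint S
    rw [Scheme.Hom.resLE_comp_ι]
    exact ((isGen_image h hl) _ (genericPoint_specializes _)).symm)
  obtain ⟨q, hq⟩ : (⟨l, hlV⟩ : V.toScheme) ∈ Set.range (k.fiberι η₀) := by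
    rw [Scheme.Hom.range_fiberι]; exact hkl
  refine ⟨q, fun z hz => (k.fiberι η₀).isEmbedding.injective ?_, congrArg V.ι hq⟩
  refine V.ι.isOpenEmbedding.injective ?_
  rw [hq]
  exact hl _ (by have := (hz.map (k.fiberι η₀).continuous).map V.ι.continuous; rwa [hq] at this)

namespace Torsor

variable {G : Over P} [GrpObj G] {Z : Type u} [Group Z]
  (eG : G ≅ TwC.const P Z) (E : NonAbH1.TorsorSch G Scheme.fppfPrecoverage) (hG : TwC.IsConstGrp Z G eG)

include eG in
theorem surjective_hom : Surjective E.X.hom := ⟨fun p => by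
  obtain ⟨-, R, hR, hs⟩ := E.isTorsor
  obtain ⟨_, _, hg, hp⟩ := hR.1 p
  obtain ⟨hg'⟩ := hg
  obtain ⟨w, hw⟩ := hp
  obtain ⟨σ, hσ⟩ := hs _ hg'
  refine ⟨σ w, ?_⟩
  rw [← hw, ← Scheme.Hom.comp_apply, hσ]
  rfl⟩

include eG in
/-- A torsor under a constant group is twisted constant for the étale topology. -/
theorem isTwConst : TwC.IsTwConst TwC.Topology.etale E.X := by
  intro p
  haveI := etale_hom eG E
  haveI : IsIso (shear E) := E.isTorsor.1
  haveI : IsIso (shear E).left := (inferInstance : IsIso ((Over.forget _).map (shear E)))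
  refine ⟨E.X.left, E.X.hom, inferInstance, (surjective_hom eG E).surj p, Z, ⟨?_⟩⟩
  have hh : (shear E).left ≫ pullback.snd E.X.hom E.X.hom = pullback.snd G.hom E.X.hom := by
    show (shear E).left ≫ (snd E.X E.X).left = (snd G E.X).left
    rw [← Over.comp_left, lift_snd]
  let i : Red.bc E.X.hom G ≅ Red.bc E.X.hom E.X := Over.isoMk (asIso (shear E).left) hh
  exact i.symm ≪≫ (Over.pullback E.X.hom).mapIso eG ≪≫ constBC E.X.hom Z

variable [IrreducibleSpace S] (hS : ∀ s : S, CAlg2.IsGeomUnibranch (S.presheaf.stalk s))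
  (hZ : ∀ z : Z, IsOfFinOrder z → z = 1)

include eG hG hS hZ f in
/-- A translation preserving a point's component is trivial. -/
theorem eq_one_of_mem_closure {l : E.X.left} (hl : IsGen l) {a : E.X.left} (ha : a ∈ closure ({l} : Set E.X.left))
    (z : Z) (hz : (transl eG E z).left a ∈ closure ({l} : Set E.X.left)) : z = 1 := by
  classical
  haveI := etale_hom eG E
  have hP := isGeomUnibranch_of_smooth f hS
  have hfin : ∀ (Y : Scheme.{u}) (g : Y ⟶ P), Etale g → LocFinGen Y := fun Y g hg => by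
    haveI := hg
    exact locFinGen_of_flat (g ≫ f)
  have huni := isUnibranch_of_etale E.X.hom hP
  -- the translation preserves the component
  have hgen : ∀ w : Z, IsGen ((transl eG E w).left l) := fun w y hy => by
    have h1 : (transl eG E w⁻¹).left y ⤳ l := by
      have := hy.map (transl eG E w⁻¹).left.continuous
      rwa [← Scheme.Hom.comp_apply, ← Over.comp_left, transl_transl eG E hG, inv_mul_cancel, transl_one eG E hG] at this
    have h2 := hl _ h1
    rw [← h2, ← Scheme.Hom.comp_apply, ← Over.comp_left, transl_transl eG E hG, mul_inv_cancel, transl_one eG E hG]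
    rfl
  have hzl : (transl eG E z).left l = l := by
    obtain ⟨m, -, -, hu⟩ := exists_unique_isGen ((transl eG E z).left a) (huni _)
    rw [hu _ (hgen z) ((specializes_iff_mem_closure.2 ha).map (transl eG E z).left.continuous),
      ← hu l hl (specializes_iff_mem_closure.2 hz)]
  have hpow : ∀ n : ℕ, (transl eG E (z ^ n)).left l = l := fun n => by
    induction n with
    | zero => rw [pow_zero, transl_one eG E hG]; rfl
    | succ n ih => rw [pow_succ', ← transl_transl eG E hG, Over.comp_left, Scheme.Hom.comp_apply, ih, hzl]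
  obtain ⟨U, hU, -, hUf⟩ := isFinite_closure hP hfin E.X (isTwConst eG E) hl
  haveI := hUf
  let h₀ := U.ι ≫ E.X.hom
  have hlU : l ∈ U := hU.ge (subset_closure rfl)
  let T₀ : Over P := Over.mk (E.X.left.fromSpecResidueField l ≫ E.X.hom)
  let x : T₀ ⟶ E.X := Over.homMk (E.X.left.fromSpecResidueField l) rfl
  let pt : T₀.left := IsLocalRing.closedPoint (E.X.left.residueField l)
  haveI : Subsingleton ↥T₀.left := inferInstanceAs (Subsingleton (PrimeSpectrum (E.X.left.residueField l)))
  have hx : ∀ t, x.left t = l := fun t => E.X.left.fromSpecResidueField_apply l t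
  let T : Over P := Over.mk (pullback.fst h₀ h₀ ≫ h₀)
  let a₀ : T ⟶ E.X := Over.homMk (pullback.fst h₀ h₀ ≫ U.ι) (by simp [T, h₀])
  let b₀ : T ⟶ E.X := Over.homMk (pullback.snd h₀ h₀ ≫ U.ι) (by
    show (pullback.snd h₀ h₀ ≫ U.ι) ≫ E.X.hom = pullback.fst h₀ h₀ ≫ h₀
    rw [pullback.condition, Category.assoc])
  obtain ⟨k, hk, -⟩ := existsUnique_translate eG E a₀ b₀
  have key : ∀ n : ℕ, ∃ m : T.left, pullback.fst h₀ h₀ m = ⟨l, hlU⟩ ∧ m ∈ piece k (z ^ n) := fun n => by
    let y : T₀ ⟶ E.X := x ≫ transl eG E (z ^ n)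
    have hy : ∀ t, y.left t = l := fun t => by
      show (transl eG E (z ^ n)).left (x.left t) = l
      rw [hx, hpow]
    have hxr : Set.range x.left ⊆ Set.range U.ι := by
      rintro _ ⟨t, rfl⟩; rw [Scheme.Opens.range_ι, hx]; exact hlU
    have hyr : Set.range y.left ⊆ Set.range U.ι := by
      rintro _ ⟨t, rfl⟩; rw [Scheme.Opens.range_ι, hy]; exact hlU
    let q : T₀ ⟶ T := Over.homMk (pullback.lift (IsOpenImmersion.lift U.ι x.left hxr)
      (IsOpenImmersion.lift U.ι y.left hyr) (by
        simp only [h₀, IsOpenImmersion.lift_fac_assoc, Over.w])) (by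
      show pullback.lift _ _ _ ≫ pullback.fst h₀ h₀ ≫ h₀ = T₀.hom
      rw [pullback.lift_fst_assoc]
      simp only [h₀, IsOpenImmersion.lift_fac_assoc, Over.w])
    have hqa : q ≫ a₀ = x := Over.OverMorphism.ext (by
      show pullback.lift _ _ _ ≫ pullback.fst h₀ h₀ ≫ U.ι = x.left
      rw [pullback.lift_fst_assoc, IsOpenImmersion.lift_fac])
    have hqb : q ≫ b₀ = y := Over.OverMorphism.ext (by
      show pullback.lift _ _ _ ≫ pullback.snd h₀ h₀ ≫ U.ι = y.left
      rw [pullback.lift_snd_assoc, IsOpenImmersion.lift_fac])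
    have hqk : q ≫ k = toUnit T₀ ≫ TwC.pt P Z (z ^ n) := by
      refine (existsUnique_translate eG E x y).unique ?_ (lift_pt_act eG E x (z ^ n))
      have := congrArg (fun r => q ≫ r) hk
      simp only [comp_lift_act] at this
      rwa [hqa, hqb] at this
    refine ⟨q.left pt, U.ι.isOpenEmbedding.injective ?_, ?_⟩
    · show (q ≫ a₀).left pt = l
      rw [hqa]; exact hx pt
    · have := piece_toUnit_pt (S := P) (T := T₀) (z ^ n) pt
      rwa [← hqk, piece_comp] at this
  choose m hm1 hm2 using key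
  haveI : LocallyQuasiFinite (pullback.fst h₀ h₀) := inferInstance
  have hfinfib := (pullback.fst h₀ h₀).finite_preimage_singleton (⟨l, hlU⟩ : U.toScheme)
  refine hZ z (not_not.1 fun hni => ?_)
  refine (Set.infinite_of_injective_forall_mem (f := m) (fun i j hij => ?_) fun n => hm1 n) hfinfib
  exact injective_pow_iff_not_isOfFinOrder.2 hni (eq_of_mem_piece k (hm2 i) (hij ▸ hm2 j))

include eG hG hS hZ f in
/-- Such torsors are trivial. -/
theorem exists_section_of_unibranch : NonAbH1.HasSectionOver E.X (𝟙 P) := by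
  classical
  haveI := etale_hom eG E
  have hP := isGeomUnibranch_of_smooth f hS
  have hPu : ∀ p : P, CAlg2.IsUnibranch (P.presheaf.stalk p) := fun p => isUnibranch_of_etale (𝟙 P) hP p
  have hfin : ∀ (Y : Scheme.{u}) (g : Y ⟶ P), Etale g → LocFinGen Y := fun Y g hg => by
    haveI := hg
    exact locFinGen_of_flat (g ≫ f)
  have huni := isUnibranch_of_etale E.X.hom hP
  haveI : LocallyQuasiFinite E.X.hom := SchDesc12.locallyQuasiFinite_of_etale E.X.hom
  have hch : ∀ ξ : {ξ : P // IsGen ξ}, ∃ l, E.X.hom l = ξ.1 := fun ξ => (surjective_hom eG E).surj ξ.1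
  choose l hl using hch
  have hlg : ∀ ξ, IsGen (l ξ) := fun ξ => isGen_of_image E.X.hom (by rw [hl]; exact ξ.2)
  let W : E.X.left.Opens := ⟨⋃ ξ, closure {l ξ}, isOpen_iUnion fun ξ =>
    (isClopen_closure huni (hfin _ E.X.hom inferInstance) (hlg ξ)).isOpen⟩
  have hsame : ∀ {ξ ξ' : {ξ : P // IsGen ξ}} {a b : E.X.left}, a ∈ closure ({l ξ} : Set E.X.left) →
      b ∈ closure ({l ξ'} : Set E.X.left) → E.X.hom a = E.X.hom b → ξ = ξ' := fun {ξ} {ξ'} {a} {b} ha hb h => by
    obtain ⟨g, -, -, hu⟩ := exists_unique_isGen (E.X.hom a) (hPu _)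
    have h1 := (specializes_iff_mem_closure.2 ha).map E.X.hom.continuous
    have h2 := (specializes_iff_mem_closure.2 hb).map E.X.hom.continuous
    rw [hl] at h1 h2
    rw [← h] at h2
    exact Subtype.ext ((hu _ ξ.2 h1).trans (hu _ ξ'.2 h2).symm)
  let h₀ : W.toScheme ⟶ P := W.ι ≫ E.X.hom
  haveI : Mono h₀ := ⟨fun {T} a b hab => by
    let T' : Over P := Over.mk (a ≫ h₀)
    let x : T' ⟶ E.X := Over.homMk (a ≫ W.ι) (by simp [T', h₀])
    let y : T' ⟶ E.X := Over.homMk (b ≫ W.ι) (by
      show (b ≫ W.ι) ≫ E.X.hom = a ≫ h₀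
      rw [hab]; simp [h₀])
    obtain ⟨k, hk, -⟩ := existsUnique_translate eG E x y
    have hk1 : k = toUnit T' ≫ TwC.pt P Z 1 := eq_toUnit_pt k 1 fun t => by
      obtain ⟨z, hz⟩ := mem_piece_self k t
      have hxy : (transl eG E z).left (x.left t) = y.left t :=
        (congrArg (fun r : openOver (piece k z) ⟶ E.X => r.left ⟨t, hz⟩) (translate_eq eG E x y k hk z)).symm
      obtain ⟨ξ, hξ⟩ := Set.mem_iUnion.1 (a t).2
      obtain ⟨ξ', hξ'⟩ := Set.mem_iUnion.1 (b t).2
      have := hsame hξ hξ' (by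
        exact congrArg (fun r : T ⟶ P => r t) hab)
      subst this
      have hyt : (transl eG E z).left (x.left t) ∈ closure ({l ξ} : Set E.X.left) := by rw [hxy]; exact hξ'
      rwa [eq_one_of_mem_closure f eG E hG hS hZ (hlg ξ) hξ z hyt] at hz
    rw [hk1, translate_refl eG E hG] at hk
    exact (cancel_mono W.ι).1 (congrArg (fun q : T' ⟶ E.X => q.left) hk)⟩
  haveI : Etale h₀ := MorphismProperty.comp_mem _ _ _ inferInstance ‹Etale E.X.hom›
  haveI : IsOpenImmersion h₀ := IsOpenImmersion.of_flat_of_mono h₀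
  haveI : Surjective h₀ := ⟨fun p => by
    obtain ⟨g, hg, hgp⟩ := exists_isGen (T := P) p
    obtain ⟨U, hU, -, hUf⟩ := isFinite_closure hP hfin E.X (isTwConst eG E) (hlg ⟨g, hg⟩)
    haveI := hUf
    have hlU : l ⟨g, hg⟩ ∈ U := hU.ge (subset_closure rfl)
    obtain ⟨w, hw⟩ := hgp.mem_closed (U.ι ≫ E.X.hom).isClosedMap.isClosed_range ⟨⟨_, hlU⟩, hl ⟨g, hg⟩⟩
    exact ⟨⟨w.1, Set.mem_iUnion.2 ⟨⟨g, hg⟩, hU.le w.2⟩⟩, hw⟩⟩
  haveI : IsIso h₀ := (isIso_iff_isOpenImmersion_and_surjective _).2 ⟨inferInstance, inferInstance⟩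
  exact ⟨inv h₀ ≫ W.ι, by rw [Category.assoc]; exact IsIso.inv_hom_id h₀⟩

end Torsor

end Groth.Agent.ConstExt19
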